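import Mathlib
import Cfsg.Agent.Lib.MonRec.TrA
import Cfsg.Agent.Lib.Mon.Rep
import Cfsg.Agent.Lib.Mon.MOut

/-! # Two-local subgroups of `Co0` of order divisible by 23 are monomial -/

set_option autoImplicit false
set_option maxRecDepth 100000

namespace CfsgLib.MonRec

open Cfsg CfsgLib.Leech CfsgLib.MType CfsgLib.Mon CfsgLib.Co1Rec CfsgLib.Golay Subgroup
open scoped Pointwise

/-- the fixed classes are orthogonal to each other -/
def P12 (t : Co0) : Prop :=
  ∀ v w : leechLattice, Cong (t • v) v → Cong (t • w) w → dotInt v.1 w.1 % 16 = 0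

theorem P12.transport {x t : Co0} (hx : P12 x) (h : IsConj (x : Spor.Co1) t) : P12 t := by
  refine wc_transport ?_ ?_ h hx
  · intro γ t ht v w hv hw
    rw [← dotInt_smul γ⁻¹]
    exact ht _ _ (by simpa [mul_smul] using hv.smul γ⁻¹) (by simpa [mul_smul] using hw.smul γ⁻¹)
  · exact fun t ht v w hv hw => ht v w ((cong_negAut t v).symm.trans hv) ((cong_negAut t w).symm.trans hw)

theorem p12_neg {t : Co0} (ht : t * t = negAut) : P12 t := by
  rintro v w ⟨u, hu⟩ hw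
  have tt : ∀ x : leechLattice, t • t • x = -x := fun x => by rw [← mul_smul, ht, negAut_smul]
  have h1 : v = -(t • u + u) := by
    have := congrArg (t • ·) hu
    simp only [smul_sub, tt, co0_smul_zsmul] at this
    refine smul_right_injective leechLattice (two_ne_zero : (2 : ℤ) ≠ 0) ?_
    simp only [smul_neg, smul_add, ← this, ← hu, two_smul]
    abel
  have h2 := hw.dot_mod (t • u)
  rw [dotInt_smul, dotInt_comm, dotInt_comm w.1] at h2
  have h3 := dotInt_mod u.2 w.2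
  rw [h1, AddSubgroup.coe_neg, Leech.dotInt_neg_left, AddSubgroup.coe_add, Leech.dotInt_add_left]
  omega

theorem dot_supp {c : Finset GolayPt} (hc : IsCW c) (h12 : c.card = 12) {x y : leechLattice}
    (hx : ∀ i, i ∉ c → x.1 i = 0) (hy : ∀ i, i ∉ c → y.1 i = 0) : dotInt x.1 y.1 % 16 = 0 := by
  obtain ⟨p, hp⟩ : ∃ p, p ∉ c := by
    by_contra k
    push Not at k
    rw [Finset.eq_univ_of_forall k, Finset.card_univ, card_pt] at h12
    omega
  have h1 : ∀ x : leechLattice, (∀ i, i ∉ c → x.1 i = 0) → IsEvenVec x.1 := fun x hx =>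
    isEvenVec_of_even x.2 (i := p) (by rw [hx p hp]; rfl)
  have h2 : ∀ x : leechLattice, (∀ i, i ∉ c → x.1 i = 0) → dotInt x.1 (tw c).1 % 16 = 0 := fun x hx => by
    have := sum_mod_of_even x.2 (h1 x hx)
    rw [← Finset.sum_subset c.subset_univ fun i _ => hx i] at this
    rw [dot_tw hc]; omega
  have h3 : ∀ x : leechLattice, (∀ i, i ∉ c → x.1 i = 0) → (∀ i, x.1 i % 4 = 0) ∨ ∀ i, (x - tw c).1 i % 4 = 0 :=
    fun x hx => by
      have k := isCW_cw x.2
      have k1 : cw x.1 ⊆ c := fun i hi => by_contra fun n => by simp [mem_cw, hx i n] at hi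
      have k2 := Golay.card_symmDiff_add (cw x.1) c
      have k3 := (k.symmDiff hc).card_eq
      have k4 := Finset.card_le_card k1
      rw [Finset.inter_eq_left.2 k1] at k2
      have k5 := h1 x hx
      rcases (show (cw x.1).card < 8 ∨ c.card ≤ (cw x.1).card by have := k.card_eq; omega) with e | e
      · refine Or.inl fun i => ?_
        have := (mem_cw (x := x.1) (i := i)).not.1 (by simp [k.eq_empty e])
        have := k5 i
        omega
      · refine Or.inr fun i => ?_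
        have := mem_cw (x := x.1) (i := i)
        have := k5 i
        rw [AddSubgroup.coe_sub, Pi.sub_apply, tw_apply hc, ← Finset.eq_of_subset_of_card_le k1 e]
        split_ifs with k6 <;> simp only [k6, true_iff, false_iff] at * <;> omega
  have h4 : ∀ x y : leechLattice, (∀ i, x.1 i % 4 = 0) → (∀ i, y.1 i % 4 = 0) → dotInt x.1 y.1 % 16 = 0 :=
    fun x y hx hy => by
      rw [dotInt, sum_emod_congr _ _ (fun _ => 0) 16 fun j _ => ?_]
      · simp
      · obtain ⟨a, ha⟩ := Int.dvd_of_emod_eq_zero (hx j)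
        obtain ⟨b, hb⟩ := Int.dvd_of_emod_eq_zero (hy j)
        rw [ha, hb, show 4 * a * (4 * b) = 16 * (a * b) by ring]; simp
  have h5 := h2 x hx
  have h6 := h2 y hy
  have h7 := h2 (tw c) fun i hi => by rw [tw_apply hc, if_neg hi]
  rw [dotInt_comm] at h6
  rcases h3 x hx with a | a <;> rcases h3 y hy with b | b <;> have := h4 _ _ a b <;>
    (try simp only [AddSubgroup.coe_sub, Leech.dotInt_sub_left, Leech.dotInt_sub_right] at this) <;> omega

theorem p12_sgn {c : Finset GolayPt} (hc : IsCW c) (h12 : c.card = 12) : P12 (sgnAut c hc) := by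
  have h1 : ∀ v, Cong (sgnAut c hc • v) v → ∃ u : leechLattice, (∀ i, i ∉ c → u.1 i = 0) ∧
      ∀ i, i ∉ cᶜ → (v + u).1 i = 0 := by
    rintro v ⟨u, hu⟩
    have := fun i => congrFun (congrArg Subtype.val hu) i
    simp only [AddSubgroup.coe_sub, Pi.sub_apply, sgnAut_smul_apply, AddSubgroup.coe_zsmul, Pi.smul_apply,
      smul_eq_mul] at this
    refine ⟨u, fun i hi => ?_, fun i hi => ?_⟩ <;> have := this i
    · rw [if_neg hi] at this; omega
    · rw [if_pos (by simpa using hi)] at this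
      rw [AddSubgroup.coe_add, Pi.add_apply]; omega
  intro v w hv hw
  obtain ⟨u, a, b⟩ := h1 v hv
  obtain ⟨u', a', b'⟩ := h1 w hw
  have h2 := dot_supp hc h12 a a'
  have h3 := dot_supp hc.compl (by rw [Finset.card_compl, card_pt, h12]) b b'
  have h4 : ∀ x y : leechLattice, (∀ i, i ∉ c → x.1 i = 0) → (∀ i, i ∉ cᶜ → y.1 i = 0) → dotInt x.1 y.1 = 0 :=
    fun x y hx hy => Finset.sum_eq_zero fun i _ => by
      by_cases k : i ∈ c
      · rw [hy i (by simpa using k), mul_zero]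
      · rw [hx i k, zero_mul]
  have h5 := h4 _ _ a b'
  have h6 := h4 _ _ a' b
  rw [dotInt_comm] at h6
  simp only [AddSubgroup.coe_add, Leech.dotInt_add_left, Leech.dotInt_add_right] at h3 h5 h6
  omega

theorem c0_eq : Co1Rec.c0 = sgnAut (ofMask 340831) (isCW_ofMask (by decide +kernel)) := sN_eq (by decide +kernel)

theorem p12_c0 : P12 Co1Rec.c0 := c0_eq ▸ p12_sgn _ (by decide +kernel)

theorem pa_c0 : PA Co1Rec.c0 := by
  rw [c0_eq]
  refine pa_sgn _ (a := pt 0) (b := pt 5) ?_ ?_ ?_ <;> simp only [mem_ofMask] <;> decide +kernel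

theorem card_dvd_of_tr {E : Subgroup Co0} (hn : negAut ∈ E)
    (h : ∀ x ∈ E, x ≠ 1 → x ≠ negAut → (tr x = -64 ∨ tr x = 64) ∧ x * x = 1) : Nat.card E ∣ 1024 := by
  classical
  have := Fintype.ofFinite E
  have := invertibleOfNonzero (show (Nat.card E : ℚ) ≠ 0 from Nat.cast_ne_zero.2 Nat.card_pos.ne')
  let ρ : Representation ℚ E (GolayPt → ℚ) := (Matrix.toLinAlgEquiv'.toMonoidHom.comp gmHom).comp E.subtype
  have h1 : ∀ x : E, ρ.character x = tr x / 8 := fun x => by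
    change LinearMap.trace _ _ (Matrix.toLin' (gm x)) = _
    rw [Matrix.trace_toLin'_eq, tr]
    simp only [Matrix.trace, Matrix.diag, gm_apply, Int.cast_sum, Finset.sum_div]
  have h2 := Representation.card_inv_mul_sum_char_mul_char_eq_finrank ρ ρ
  have t1 : tr 1 = 192 := by rw [← sgnAut_empty, tr_sgn]; rfl
  have t2 : tr negAut = -192 := by rw [← one_mul negAut, tr_neg, t1]
  have t3 : (1 : E) ≠ ⟨_, hn⟩ := fun e => negAut_ne_one (congrArg Subtype.val e).symm
  have h3 : ∀ x : E, ρ.character x * ρ.character x⁻¹ =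
      64 + ((if x = 1 then 512 else 0) + if x = ⟨_, hn⟩ then 512 else 0) := fun x => by
    rw [h1, h1, Subgroup.coe_inv]
    by_cases a : x = 1
    · rw [a, if_pos rfl, if_neg t3, Subgroup.coe_one, inv_one, t1]; norm_num
    by_cases b : x = ⟨_, hn⟩
    · rw [if_neg a, if_pos b, b, inv_eq_of_mul_eq_one_right negAut_mul_self, t2]; norm_num
    obtain ⟨k1, k2⟩ := h x x.2 (fun e => a (Subtype.ext e)) fun e => b (Subtype.ext e)
    rw [inv_eq_of_mul_eq_one_right k2, if_neg a, if_neg b]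
    rcases k1 with k | k <;> rw [k] <;> norm_num
  rw [Finset.sum_congr rfl fun x _ => h3 x, inv_mul_eq_iff_eq_mul₀ (Nat.cast_ne_zero.2 Nat.card_pos.ne')] at h2
  simp only [Finset.sum_add_distrib, Finset.sum_const, Finset.card_univ, Finset.sum_ite_eq', Finset.mem_univ,
    if_true, nsmul_eq_mul, ← Nat.card_eq_fintype_card] at h2
  refine (Nat.dvd_add_right (Dvd.intro 64 rfl)).1 ⟨Module.finrank ℚ (ρ.IntertwiningMap ρ),
    Nat.cast_injective (R := ℚ) ?_⟩
  push_cast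
  rw [← h2]; ring

variable {κ : Coord}

theorem iter_act (g : Co0) (u : V24) (n : ℕ) : (κ.act g)^[n] u = κ.act (g ^ n) u := by
  induction n with
  | zero => simp
  | succ n ih => rw [Function.iterate_succ_apply', ih, pow_succ', κ.act_mul]

/-- the norm map of `g23` -/
noncomputable def nrm (κ : Coord) : V24 →+ V24 := ∑ i ∈ Finset.range 23, κ.act (g23 ^ i)

theorem nrm_apply (u : V24) : nrm κ u = ∑ i ∈ Finset.range 23, κ.act (g23 ^ i) u :=
  AddMonoidHom.finsetSum_apply _ _ _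

theorem nrm_act (u : V24) : nrm κ (κ.act g23 u) = nrm κ u := by
  have := (Finset.sum_range_succ' (fun i => κ.act (g23 ^ i) u) 23).symm.trans (Finset.sum_range_succ _ _)
  rw [g23_pow, pow_zero, add_left_inj] at this
  rw [nrm_apply, nrm_apply, ← this]
  exact Finset.sum_congr rfl fun i _ => by rw [pow_succ, κ.act_mul]

theorem card_nrm {T : AddSubgroup V24} (h : ∀ u ∈ T, κ.act g23 u ∈ T) :
    Nat.card ↥(T ⊓ (nrm κ).ker) ∈ ({1, 2 ^ 11, 2 ^ 22} : Set ℕ) := by
  have h1 : Nat.card ↥(T ⊓ (nrm κ).ker) % 23 = 1 := ncard_mod_one (S := ((T ⊓ (nrm κ).ker : AddSubgroup V24) : Set V24)) (Set.toFinite _)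
    (f := κ.act g23) (fun x hx => ⟨h x hx.1, (nrm_act x).trans hx.2⟩)
    (fun x _ => by rw [iter_act, g23_pow, κ.act_one]) (zero_mem _) (map_zero _) fun x hx e => by
      have k : ∀ n, κ.act (g23 ^ n) x = x := fun n => by rw [← iter_act, Function.iterate_fixed e]
      have : nrm κ x = 0 := hx.2
      rw [nrm_apply, Finset.sum_congr rfl fun i _ => k i, Finset.sum_const, Finset.card_range] at this
      rwa [show 23 = 11 * 2 + 1 from rfl, succ_nsmul, mul_nsmul, two_nsmul, ww_add_self, zero_add] at this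
  obtain ⟨k, hk, e⟩ := (Nat.dvd_prime_pow Nat.prime_two).1 (Dvd.intro_left _ (card_perp (T ⊓ (nrm κ).ker)))
  rw [e] at h1 ⊢
  interval_cases k <;> first | decide | exact absurd h1 (by decide)

theorem act_inv_mem {S : Set V24} (h : ∀ u ∈ S, κ.act g23 u ∈ S) {u : V24} (hu : u ∈ S) : κ.act g23⁻¹ u ∈ S := by
  have := Set.MapsTo.iterate h 22 hu
  rwa [iter_act, eq_inv_of_mul_eq_one_left ((pow_succ g23 22).symm.trans g23_pow)] at this

theorem add_mem_of_perp {W : AddSubgroup V24} (h : ∀ u ∈ W, κ.act g23 u ∈ W) (h1 : W ≤ perp W) {v : V24}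
    (hv : v ∈ W) (h2 : κ.act g23 v ≠ v) {u : V24} (hu : u ∈ perp W) : u + κ.act g23 u ∈ W := by
  have h3 : ∀ u, u + κ.act g23 u ∈ (nrm κ).ker := fun u => by
    rw [AddMonoidHom.mem_ker, map_add, nrm_act, ww_add_self]
  have h4 : ∀ u ∈ perp W, κ.act g23 u ∈ perp W := fun u hu w hw => by
    rw [← κ.act_act_inv g23 w, κ.om_act]; exact hu _ (act_inv_mem h hw)
  have h5 := card_nrm h
  have h6 := card_nrm h4
  have h7 : 1 < Nat.card ↥(W ⊓ (nrm κ).ker) := (AddSubgroup.one_lt_card_iff_ne_bot _).2 fun e => h2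
    (Mult.eq_add_of (AddSubgroup.mem_bot.1 (e ▸ ⟨add_mem hv (h v hv), h3 v⟩)) |>.trans (add_zero _))
  have h8 := AddSubgroup.card_le_of_le (inf_le_left : W ⊓ (nrm κ).ker ≤ W)
  have h9 := AddSubgroup.card_le_of_le (inf_le_left : perp W ⊓ (nrm κ).ker ≤ perp W)
  have h10 := card_perp W
  have h11 : W ⊓ (nrm κ).ker ≤ perp W ⊓ (nrm κ).ker := inf_le_inf_right _ h1
  refine ((AddSubgroup.eq_of_le_of_card_ge h11 ?_).ge ⟨add_mem hu (h4 u hu), h3 u⟩).1
  have := Nat.mul_le_mul h9 h8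
  simp only [Set.mem_insert_iff, Set.mem_singleton_iff] at h5 h6
  rw [h10] at this
  rcases h5 with e | e | e <;> rcases h6 with e' | e' | e' <;> rw [e, e'] at this ⊢ <;> omega

theorem mk_g23_pow : ((g23 : Co0) : Spor.Co1) ^ 23 = 1 := by rw [← QuotientGroup.mk_pow, g23_pow]; rfl

theorem fix_of_elem {E : Subgroup Spor.Co1} (h2 : ∀ x ∈ E, x * x = 1) (h0 : E ≠ ⊥)
    (hn : ∀ x ∈ E, (g23 : Co0) * x * ((g23 : Co0) : Spor.Co1)⁻¹ ∈ E) {v : V24}
    (hv : ∀ x : Co0, ↑x ∈ E → κ.act x v = v) : κ.act g23 v = v := by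
  classical
  by_contra n
  let W : AddSubgroup V24 := ⨅ x : E.comap (QuotientGroup.mk' _), (κ.act x).eqLocus (AddMonoidHom.id _)
  have mW : ∀ {u}, u ∈ W ↔ ∀ x : Co0, ↑x ∈ E → κ.act x u = u :=
    AddSubgroup.mem_iInf.trans ⟨fun h x hx => h ⟨x, hx⟩, fun h x => h x x.2⟩
  have hn' : ∀ x ∈ E, ((g23 : Co0) : Spor.Co1)⁻¹ * x * (g23 : Co0) ∈ E := fun x hx => by
    have := Set.MapsTo.iterate hn 22 hx
    rwa [iter_conj, eq_inv_of_mul_eq_one_left ((pow_succ _ 22).symm.trans mk_g23_pow), inv_inv] at this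
  have h3 : ∀ u ∈ W, κ.act g23 u ∈ W := fun u hu => mW.2 fun x hx => by
    rw [← κ.act_act_inv g23 (κ.act x _), ← κ.act_mul g23⁻¹, ← κ.act_mul (g23⁻¹ * x), mW.1 hu _ (hn' _ hx)]
  have h4 : ∀ x : Co0, ↑x ∈ E → P12 x → ∀ u, κ.act x u = u → κ.act x (κ.act g23⁻¹ u) = κ.act g23⁻¹ u :=
    fun x hx p u => by
      have k : ∀ u, κ.act x u = u → u ∈ perp W := fun u hu w hw => by
        obtain ⟨u, rfl⟩ := κ.surj u
        obtain ⟨w, rfl⟩ := κ.surj w
        have := mW.1 hw x hx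
        rw [κ.act_φ, κ.φ_eq_iff] at hu this
        rw [κ.om_φ, ipL_eq_zero, p u w hu this]
      refine act_inv_mem (S := {u | κ.act x u = u}) fun u hu => ?_
      have := mW.1 (add_mem_of_perp h3 (fun u hu => k u (mW.1 hu x hx)) (mW.2 hv) n (k u hu)) x hx
      rwa [map_add, hu, add_right_inj] at this
  have h5 : ∀ x : Co0, ↑x ∈ E → P12 x → ∀ r : Co0, (∀ v, Cong (x • v) v → Cong (r • v) v) →
      ∀ v, Cong (x • v) v → Cong ((g23 * r * g23⁻¹) • v) v := fun x hx p r hr v hv => by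
    rw [← κ.φ_eq_iff, ← κ.act_φ] at hv ⊢
    have := h4 x hx p _ hv
    rw [κ.act_φ, κ.act_φ, κ.φ_eq_iff] at this
    rw [κ.act_mul, κ.act_mul, κ.act_φ, κ.act_φ, κ.φ_eq_iff.2 (hr _ this), ← κ.act_φ, κ.act_act_inv]
  have h6 : ∀ x ∈ E, (g23 : Co0) * x * ((g23 : Co0) : Spor.Co1)⁻¹ = x → x = 1 := fun x hx e =>
    f23' (mul_inv_eq_iff_eq_mul.1 e).symm (k := 1) ((sq x).trans (h2 x hx))
  have h7 : ∀ x : Co0, ↑x ∈ E → (x : Spor.Co1) ≠ 1 → IsConj zz x := fun x hx x1 => by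
    rcases inv3 (h2 _ hx) x1 with k | k | k
    · exact k
    · rcases pa_c0.transport k _ (h5 x hx (p12_c0.transport k) x fun _ => id) with e | e
      · exact absurd ((conj_eq_one_iff (a := ((g23 : Co0) : Spor.Co1))).1 e) x1
      · exact absurd (h6 _ hx e) x1
    exfalso
    let F : Subgroup Spor.Co1 := E ⊓ Subgroup.map (QuotientGroup.mk' _)
      { carrier := {r | ∀ v, Cong (x • v) v → Cong (r • v) v}
        one_mem' := fun v _ => by rw [one_smul]; exact Cong.refl v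
        mul_mem' := fun {a b} ha hb v hv => by rw [mul_smul]; exact ((hb v hv).smul a).trans (ha v hv)
        inv_mem' := fun {a} ha v hv => by simpa using ((ha v hv).smul a⁻¹).symm }
    have f1 : ∀ r : Co0, ↑r ∈ F → (r : Spor.Co1) ≠ 1 → r * r = negAut := by
      rintro r ⟨a, s, b, e⟩ r1
      have := not_p32 (conj_uu k) b
      rcases inv3 (h2 _ a) r1 with c | c | c
      exacts [absurd (p32_z0.transport (c.trans (e ▸ IsConj.refl _))) this,
        absurd (p32_c0.transport (c.trans (e ▸ IsConj.refl _))) this, conj_uu c]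
    have f2 := ncard_mod_one (S := F) (Set.toFinite _) (f := fun x => (g23 : Co0) * x * ((g23 : Co0) : Spor.Co1)⁻¹)
      (by rintro _ ⟨a, s, b, rfl⟩; exact ⟨hn _ a, _, h5 x hx (p12_neg (conj_uu k)) s b, rfl⟩)
      (fun x _ => by rw [iter_conj, mk_g23_pow]; simp) (one_mem _) (by simp) fun x hx => h6 x hx.1
    have xF : ↑x ∈ F := ⟨hx, x, fun _ => id, rfl⟩
    have f3 : 1 < (F : Set Spor.Co1).ncard := (Set.one_lt_ncard (Set.toFinite _)).2 ⟨_, xF, _, one_mem _, x1⟩
    have f4 : ∀ a b c d : Spor.Co1, ∃ y : Co0, ↑y ∈ F ∧ ↑y ≠ a ∧ ↑y ≠ b ∧ ↑y ≠ c ∧ ↑y ≠ d := fun a b c d => by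
      obtain ⟨y, h1, h2⟩ := Set.exists_mem_notMem_of_ncard_lt_ncard (s := ↑({a, b, c, d} : Finset Spor.Co1))
        (t := (F : Set Spor.Co1)) (by rw [Set.ncard_coe_finset]; exact Finset.card_le_four.trans_lt (by omega))
      obtain ⟨y, rfl⟩ := QuotientGroup.mk_surjective y
      exact ⟨y, h1, by simpa using h2⟩
    have f5 : ∀ {a b : Co0}, ↑a ∈ F → ↑b ≠ (a : Spor.Co1) → ((a * b : Co0) : Spor.Co1) ≠ 1 := fun {a _} ha n e =>
      n (mul_left_cancel (a := (a : Spor.Co1)) (e.trans (h2 _ ha.1).symm))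
    obtain ⟨b, b0, b1, b2, -⟩ := f4 1 x 1 1
    obtain ⟨c, c0, c1, c2, c3, c4⟩ := f4 1 x b (x * b)
    have := not_three_neg (f1 x xF x1) (f1 b b0 b1) (f1 c c0 c1) (f1 _ (mul_mem xF b0) (f5 xF b2))
      (f1 _ (mul_mem xF c0) (f5 xF c2)) (f1 _ (mul_mem b0 c0) (f5 b0 c3))
    rw [← mul_assoc x b c, f1 (x * b * c) (mul_mem (mul_mem xF b0) c0) (f5 (mul_mem xF b0) c4)] at this
    exact negAut_ne_one this
  have nE : negAut ∈ E.comap (QuotientGroup.mk' _) :=
    show ((negAut : Co0) : Spor.Co1) ∈ E from (mk_eq_one_co1.2 (Or.inr rfl)).symm ▸ one_mem E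
  obtain ⟨k, hk, e⟩ := (Nat.dvd_prime_pow Nat.prime_two (m := 10)).1 (card_dvd_of_tr nE fun x hx a b =>
    conj_zz (h7 x hx fun e => (mk_eq_one_co1.1 e).elim a b))
  have h8 := ncard_modEq (S := E.comap (QuotientGroup.mk' _)) (Set.toFinite _) (f := fun x => g23 * x * g23⁻¹)
    (fun x hx => hn _ hx) fun x _ => by rw [iter_conj, g23_pow]; simp
  rw [show {x | x ∈ _ ∧ g23 * x * g23⁻¹ = x} = {1, negAut} from Set.ext fun x =>
    ⟨fun k => mk_eq_one_co1.1 (h6 _ k.1 (congrArg QuotientGroup.mk k.2)), by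
      rintro (rfl | rfl)
      exacts [⟨one_mem _, by simp⟩, ⟨nE, by rw [neg_comm, mul_inv_cancel_right]⟩]⟩,
    Set.ncard_pair negAut_ne_one.symm, ← Nat.card_coe_set_eq] at h8
  change Nat.card (E.comap (QuotientGroup.mk' _)) ≡ _ [MOD _] at h8
  obtain ⟨⟨x, hx⟩, x1⟩ := ne_bot_iff_exists_ne_one.1 h0
  obtain ⟨x, rfl⟩ := QuotientGroup.mk_surjective x
  have h9 : 2 < Nat.card (E.comap (QuotientGroup.mk' _)) := by
    have := mk_eq_one_co1.not.1 fun e => x1 (Subtype.ext e)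
    rw [not_or] at this
    exact (Set.two_lt_ncard (Set.toFinite _)).2 ⟨_, one_mem _, _, nE, _, hx, negAut_ne_one.symm, Ne.symm this.1,
      Ne.symm this.2⟩
  rw [e] at h8 h9
  interval_cases k <;> first | omega | exact absurd h8 (by decide)

theorem le_mono {Y B : Subgroup Co0} (hg : g23 ∈ Y) (hB : IsPGroup 2 B) (hn : ∀ y ∈ Y, ∀ b ∈ B, y * b * y⁻¹ ∈ B)
    {b : Co0} (hb : b ∈ B) (b1 : (b : Spor.Co1) ≠ 1) : Y ≤ monoGrp := by
  let B' : Subgroup Spor.Co1 := B.map (QuotientGroup.mk' _)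
  have hB' : IsPGroup 2 B' := hB.map _
  have : Nontrivial B' := ⟨⟨⟨_, b, hb, rfl⟩, 1, fun e => b1 (congrArg Subtype.val e)⟩⟩
  have := hB'.center_nontrivial
  obtain ⟨a, ha⟩ := exists_prime_orderOf_dvd_card' (G := center B') 2 (by
    obtain ⟨n, h0, e⟩ := (hB'.to_subgroup (center B')).nontrivial_iff_card.1 this
    exact e ▸ dvd_pow_self _ h0.ne')
  let E : Subgroup Spor.Co1 :=
    { carrier := {x | x ∈ B' ∧ x * x = 1 ∧ ∀ y ∈ B', x * y = y * x}
      one_mem' := ⟨one_mem _, one_mul _, by simp⟩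
      mul_mem' := fun {a b} ha hb => ⟨mul_mem ha.1 hb.1, by
        rw [mul_assoc, ← mul_assoc b, hb.2.2 a ha.1, mul_assoc, hb.2.1, mul_one, ha.2.1], fun y hy => by
        rw [mul_assoc, hb.2.2 y hy, ← mul_assoc, ha.2.2 y hy, mul_assoc]⟩
      inv_mem' := fun {a} ha => by rwa [inv_eq_of_mul_eq_one_right ha.2.1] }
  have h1 : ∀ y ∈ Y, ∀ x ∈ B', (y : Spor.Co1) * x * (y : Spor.Co1)⁻¹ ∈ B' := by
    rintro y hy _ ⟨x, hx, rfl⟩; exact ⟨_, hn y hy x hx, rfl⟩
  have h2 : ∀ y ∈ Y, ∀ x ∈ E, (y : Spor.Co1) * x * (y : Spor.Co1)⁻¹ ∈ E := fun y hy x hx =>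
    ⟨h1 y hy x hx.1, by rw [conj_mul, hx.2.1]; simp, fun w hw => by
      have := hx.2.2 _ (h1 _ (inv_mem hy) w hw)
      rw [QuotientGroup.mk_inv, inv_inv] at this
      calc _ = y * (x * ((y : Spor.Co1)⁻¹ * w * y)) * (y : Spor.Co1)⁻¹ := by group
        _ = _ := by rw [this]; group⟩
  have h3 : IsPGroup 2 (E.comap (QuotientGroup.mk' (center Co0))) :=
    (hB'.to_le (H := E) fun x hx => hx.1).comap_of_ker_isPGroup _ (IsPGroup.of_card (n := 1) (by
      rw [QuotientGroup.ker_mk', card_center]; rfl))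
  have h4 := monoGrp.card_eq_card_quotient_mul_card_subgroup
  rw [card_Co0, card_monoGrp] at h4
  obtain ⟨x, hx⟩ := h3.nonempty_fixed_point_of_prime_not_dvd_card (Co0 ⧸ monoGrp) (by omega)
  obtain ⟨k, rfl⟩ := QuotientGroup.mk_surjective x
  have h5 : ∀ y ∈ Y, y * k ∈ monoGrp := fun y hy => mono_of_conj (act_w0_iff.1 (by
    rw [k0.act_mul, k0.act_mul, fix_of_elem (E := E) (fun x hx => hx.2.1) (ne_bot_iff_exists_ne_one.2
      ⟨⟨a, a.1.2, ?_, fun y hy => congrArg Subtype.val (mem_center_iff.1 a.2 ⟨y, hy⟩).symm⟩, ?_⟩) (h2 _ hg)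
      fun x hx' => ?_, k0.act_inv_act]
    · have := pow_orderOf_eq_one a
      rw [ha, sq] at this
      exact congrArg (fun x => x.1.1) this
    · intro e
      obtain rfl : a = 1 := Subtype.ext (Subtype.ext (congrArg Subtype.val e :))
      simp at ha
    · have := QuotientGroup.eq.1 (hx ⟨y⁻¹ * x * y, by simpa using h2 _ (inv_mem hy) _ hx'⟩).symm
      have := (act_w0_iff (κ := k0)).2 this
      rw [← k0.act_mul, ← (k0.act_injective (y * k)⁻¹).eq_iff, k0.act_inv_act, ← k0.act_mul]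
      simpa [mul_assoc] using this))
  exact fun y hy => (monoGrp.mul_mem_cancel_right (by simpa using h5 1 (one_mem _))).1 (h5 y hy)

end CfsgLib.MonRec
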