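import Mathlib
import Cfsg.Agent.Lib.MonRec.AmC
import Cfsg.Agent.Lib.Mon.LGen

/-! # The Leech lattice modulo two is uniserial for the monomial group -/

set_option autoImplicit false

namespace CfsgLib.MonRec

open Cfsg CfsgLib.Leech CfsgLib.MType CfsgLib.Mon CfsgLib.Mon.Mult Finset
open scoped Pointwise Matrix

variable {κ : Coord}

theorem sum_symmDiff2 (f : GolayPt → V24) (S T : Finset GolayPt) :
    ∑ i ∈ symmDiff S T, f i = ∑ i ∈ S, f i + ∑ i ∈ T, f i := by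
  simp only [← sum_ite_mem_eq _ f, ← sum_add_distrib]
  refine sum_congr rfl fun i _ => ?_
  by_cases a : i ∈ S <;> by_cases b : i ∈ T <;> simp [mem_symmDiff, a, b, ww_add_self]

theorem act_perm_sum (σ : M24) (S : Finset GolayPt) :
    κ.act (permAut σ) (∑ i ∈ S, lam κ i) = ∑ i ∈ σ • S, lam κ i := by
  rw [map_sum, smul_finset_def, sum_image fun a _ b _ => smul_left_cancel σ]
  exact sum_congr rfl fun i _ => act_perm_lam σ i

theorem perm_mono (σ : M24) : permAut σ ∈ monoGrp := ⟨∅, isCW_empty, σ, by rw [sgnAut_empty, one_mul]⟩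

theorem sgn_mono {d : Finset GolayPt} (hd : IsCW d) : sgnAut d hd ∈ monoGrp := ⟨d, hd, 1, by rw [permAut_one, mul_one]⟩

theorem act_mono_w0 {g : Co0} (hg : g ∈ monoGrp) (s : ZMod 2) : κ.act g (s • w0 κ) = s • w0 κ := by
  rcases z2_cases s with rfl | rfl <;> simp [act_w0_iff.2 hg]

theorem pair_ne {i j : GolayPt} (h : i ≠ j) (c : Co0) : lam κ i + lam κ j ≠ 0 ∧ lam κ i + lam κ j ≠ κ.act c (w0 κ) := by
  rw [← φ_dlL, w0, κ.act_φ]
  refine ⟨φ_ne_zero (by rw [sqNorm_dlL h]; norm_num) (by rw [sqNorm_dlL h]; norm_num), fun e => ?_⟩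
  have := (κ.φ_eq_iff.1 e).sqNorm_eq (by rw [sqNorm_dlL h]; norm_num) (by rw [sqNorm_smul, sqNorm_e8])
  rw [sqNorm_smul, sqNorm_e8, sqNorm_dlL h] at this
  exact absurd this (by norm_num)

theorem om_act_left (g : Co0) (v u : V24) : om (κ.act g v) u = om v (κ.act g⁻¹ u) := by
  rw [← κ.om_act g v, κ.act_act_inv]

variable (h : Std κ)
include h

theorem v1_le {A : AddSubgroup V24} (h0 : w0 κ ∈ A) (h1 : ∀ i j, i ≠ j → lam κ i + lam κ j ∈ A) {v : V24}
    (hv : v.1 = 0) : v ∈ A := by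
  have h2 : ∀ v : V24, v.1 = 0 → v.2 ⬝ᵥ a0 κ = 0 → v ∈ A := fun v a b => by
    obtain ⟨e, w, k, l⟩ := h.qh_mem_of_isE (H := {
      carrier := {x | ∃ e, ∃ w ∈ A, x = qh κ e w}
      one_mem' := ⟨0, 0, zero_mem _, qh_zero.symm⟩
      mul_mem' := by rintro _ _ ⟨e, v, a, rfl⟩ ⟨e', v', a', rfl⟩; exact ⟨_, _, add_mem a a', qh_mul _ _ _ _⟩
      inv_mem' := by rintro _ ⟨e, v, a, rfl⟩; exact ⟨_, _, a, qh_inv _ _⟩ }) (fun i => ⟨0, _, by
        by_cases k : i = none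
        · rw [k, ww_add_self]; exact zero_mem _
        · exact h1 _ _ k, h.xI_mul i none⟩) (isE_qh.2 ⟨rfl, a, b⟩)
    exact (qh_inj l).2 ▸ k
  rcases z2_cases (v.2 ⬝ᵥ a0 κ) with k | k
  · exact h2 v hv k
  · exact (A.add_mem_cancel_right h0).1 (h2 _ (by simp [hv, h.w0_fst]) (by simp [k, h.w0_dot_a0, z2_add_self]))

theorem sum_fst {S : Finset GolayPt} (hS : S.card % 2 = 0) : (∑ i ∈ S, lam κ i).1 = 0 := by
  obtain ⟨n, e⟩ := Nat.dvd_of_mod_eq_zero hS
  simp only [Prod.fst_sum, h.lam_fst, sum_const, e, mul_nsmul, two_nsmul, w_add_self, smul_zero]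

theorem sum_cw {d : Finset GolayPt} (hd : IsCW d) : ∃ s : ZMod 2, ∑ i ∈ d, lam κ i = s • w0 κ := by
  have h1 := sum_fst h (S := d) (by have := card_mod_four hd; omega)
  refine (h.eq_zero_or_w0 h1 fun e he => ?_).elim (fun k => ⟨0, by simp [k]⟩) fun k => ⟨1, by simp [k]⟩
  have : om (∑ i ∈ d, lam κ i) (xv κ e) = ((d ∩ e).card : ZMod 2) := by
    rw [← omL_apply, map_sum]
    simp [omL_apply, om_comm _ (xv κ e), om_xv_lam he]
  rwa [om, bet_fst h1, add_zero, bet, h.xv_fst, (ZMod.natCast_eq_zero_iff _ _).2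
    (Nat.dvd_of_mod_eq_zero (hd.even_inter he))] at this

theorem exists_sum {v : V24} (hv : v.1 = 0) : ∃ (S : Finset GolayPt) (s : ZMod 2),
    S.card ≤ 4 ∧ S.card % 2 = 0 ∧ v = ∑ i ∈ S, lam κ i + s • w0 κ := by
  obtain ⟨S, s, a, rfl⟩ : ∃ (S : Finset GolayPt) (s : ZMod 2), S.card % 2 = 0 ∧ v = ∑ i ∈ S, lam κ i + s • w0 κ :=
    v1_le h (A := {
      carrier := {v | ∃ (S : Finset GolayPt) (s : ZMod 2), S.card % 2 = 0 ∧ v = ∑ i ∈ S, lam κ i + s • w0 κ}
      zero_mem' := ⟨∅, 0, rfl, by simp⟩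
      add_mem' := by
        rintro _ _ ⟨S, s, a, rfl⟩ ⟨T, t, b, rfl⟩
        exact ⟨symmDiff S T, s + t, by have := Golay.card_symmDiff_add S T; omega, by
          rw [sum_symmDiff2, add_smul, add_add_add_comm]⟩
      neg_mem' := fun {a} ha => by rwa [neg_eq_of_add_eq_zero_right (ww_add_self a)] }) ⟨∅, 1, rfl, by simp⟩
      (fun i j k => ⟨{i, j}, 0, by rw [card_pair k], by simp [k]⟩) hv
  obtain ⟨T, b, c⟩ := M24E.exists_small S
  obtain ⟨t, e⟩ := sum_cw h (d := symmDiff S T) c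
  have := Golay.card_symmDiff_add S T
  have := M24E.even_card_of_mem c
  rw [sum_symmDiff2, add_comm] at e
  exact ⟨T, t + s, b, by omega, by rw [eq_add_of e, add_smul, add_assoc]⟩

theorem exists_perm_pair {v : V24} (hv : v.1 = 0) (h0 : v ≠ 0) (h1 : v ≠ w0 κ) :
    ∃ σ i j, i ≠ j ∧ κ.act (permAut σ) v + v = lam κ i + lam κ j := by
  obtain ⟨S, s, a, -, rfl⟩ := exists_sum h hv
  obtain ⟨i, hi⟩ := S.eq_empty_or_nonempty.resolve_left (by
    rintro rfl; rcases z2_cases s with rfl | rfl <;> simp at h0 h1)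
  obtain ⟨j, hj⟩ := Cov.exists_notMem S (by omega)
  obtain ⟨g, hg, e⟩ := Mathieu.set_trans24 (s := S) (t := insert j (S.erase i)) (by
    rw [card_insert_of_notMem fun k => hj (mem_of_mem_erase k), card_erase_add_one hi]) (by omega)
  have ij : i ≠ j := fun k => hj (k ▸ hi)
  refine ⟨⟨g, hg⟩, i, j, ij, ?_⟩
  rw [map_add, act_mono_w0 (perm_mono _), act_perm_sum, add_add_add_comm, ww_add_self, add_zero, add_comm,
    ← sum_symmDiff2, show (⟨g, hg⟩ : M24) • S = _ from e, M24E.aux_swap hi hj, sum_pair ij]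

omit h in
theorem exists_aT {v : V24} (hv : v.1 = 0) {c c' : Co0} (h1 : v = k0.act c (w0 k0)) (h2 : v + w0 k0 = k0.act c' (w0 k0)) :
    ∃ (σ : M24) (s : ZMod 2), k0.act (permAut σ) v = aT + s • w0 k0 := by
  obtain ⟨S, s, a, b, e⟩ := exists_sum std_k0 hv
  have h3 : ∃ c, ∑ i ∈ S, lam k0 i = k0.act c (w0 k0) := by
    rcases z2_cases s with rfl | rfl
    · exact ⟨c, by simpa [h1] using e.symm⟩
    · exact ⟨c', by rw [← h2, e, one_smul, add_assoc, ww_add_self, add_zero]⟩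
  obtain ⟨c, h3⟩ := h3
  rcases (by omega : S.card = 0 ∨ S.card = 2 ∨ S.card = 4) with k | k | k
  · rw [card_eq_zero.1 k, sum_empty, ← map_zero (k0.act c)] at h3
    exact absurd (k0.act_injective c h3).symm w0_ne_zero
  · obtain ⟨i, j, ij, rfl⟩ := card_eq_two.1 k
    exact absurd ((sum_pair ij).symm.trans h3) (pair_ne ij c).2
  obtain ⟨g, hg, l⟩ := Mathieu.set_trans24 (s := S) (t := {none, some 0, some 1, some 2}) (k.trans (by decide))
    (by omega)
  refine ⟨⟨g, hg⟩, s, ?_⟩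
  rw [e, map_add, act_mono_w0 (perm_mono _), act_perm_sum, show (⟨g, hg⟩ : M24) • S = _ from l,
    sum_insert (by decide), sum_insert (by decide), sum_pair (by decide), aT, ← add_assoc (lam k0 none)]

theorem fst_of_sgn {v : V24} (hv : ∀ d hd, κ.act (sgnAut d hd) v + v = 0 ∨ κ.act (sgnAut d hd) v + v = w0 κ) :
    v.1 = 0 := by
  have h1 : ∀ i j, i ≠ j → lam κ i + lam κ j + w0 κ ∈ (omL v).ker := fun i j k => by
    obtain ⟨d, hd, m, a, b⟩ := exists_duad (κ := κ) k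
    rw [← b, AddMonoidHom.mem_ker, omL_apply, om_add_left, om_act_left, sgnAut_inv, ← om_add_right]
    rcases hv d hd with e | e <;> simp [e, a]
  have h2 : w0 κ ∈ (omL v).ker := by
    convert add_mem (add_mem (h1 none (some 0) (by decide)) (h1 (some 0) (some 1) (by decide)))
      (h1 none (some 1) (by decide)) using 1
    linear_combination (norm := abel1) -ww_add_self (lam κ none + lam κ (some 0) + lam κ (some 1) + w0 κ)
  exact fst_eq_zero fun w hw => (om_comm _ _).trans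
    (v1_le h h2 (fun i j k => (AddSubgroup.add_mem_cancel_right _ h2).1 (h1 i j k)) hw)

theorem sgn_v1 {d : Finset GolayPt} (hd : IsCW d) {r : V24} (hr : r.1 = 0) :
    ∃ s : ZMod 2, κ.act (sgnAut d hd) r + r = s • w0 κ :=
  v1_le h (A := {
    carrier := {r | ∃ s : ZMod 2, κ.act (sgnAut d hd) r + r = s • w0 κ}
    zero_mem' := ⟨0, by simp⟩
    add_mem' := by
      rintro a b ⟨s, k⟩ ⟨t, l⟩
      exact ⟨s + t, by rw [map_add, add_add_add_comm, k, l, add_smul]⟩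
    neg_mem' := fun {a} ha => by rwa [neg_eq_of_add_eq_zero_right (ww_add_self a)] })
    ⟨0, by simp [act_w0_iff.2 (sgn_mono hd), ww_add_self]⟩ (fun i j _ =>
      ⟨(if i ∈ d then 1 else 0) + if j ∈ d then 1 else 0, by
        rw [act_sgn_pair, add_right_comm, ww_add_self]; simp [add_smul]⟩) hr

theorem sgn_perp {d : Finset GolayPt} (hd : IsCW d) {u : V24} (hu : om u (w0 κ) = 0) :
    (κ.act (sgnAut d hd) u + u).1 = 0 := fst_eq_zero fun r hr => by
  obtain ⟨s, e⟩ := sgn_v1 h hd hr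
  rw [om_add_left, om_act_left, sgnAut_inv, ← om_add_right, e]
  rcases z2_cases s with rfl | rfl <;> simp [hu]

variable {T : AddSubgroup V24} (hT : ∀ g ∈ monoGrp, ∀ u ∈ T, κ.act g u ∈ T)
include hT

theorem v1_le_of {u : V24} (hu : u ∈ T) (h0 : u ≠ 0) (h1 : u ≠ w0 κ) {v : V24} (hv : v.1 = 0) : v ∈ T := by
  have k1 : ∀ u ∈ T, u ≠ 0 → u ≠ w0 κ → u.1 = 0 → v ∈ T := fun u hu h0 h1 h2 => by
    obtain ⟨σ, i, j, ij, e⟩ := exists_perm_pair h h2 h0 h1
    have h3 : lam κ i + lam κ j ∈ T := e ▸ add_mem (hT _ (perm_mono σ) u hu) hu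
    obtain ⟨d, hd, a, b⟩ := exists_cw_sep_two ij
    have h4 := hT _ (sgn_mono hd) _ h3
    rw [act_sgn_pair, if_pos a, if_neg b, add_zero] at h4
    refine v1_le h ((T.add_mem_cancel_left h3).1 h4) (fun i' j' k => ?_) hv
    obtain ⟨τ, rfl, rfl⟩ := exists_M24_two ij k
    simpa only [map_add, act_perm_lam] using hT _ (perm_mono τ) _ h3
  have k2 : ∀ u ∈ T, u.1 ≠ 0 → ∃ d hd, κ.act (sgnAut d hd) u + u ∈ T ∧ κ.act (sgnAut d hd) u + u ≠ 0 ∧
      κ.act (sgnAut d hd) u + u ≠ w0 κ := fun u hu k => by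
    have := mt (fst_of_sgn h) k
    push Not at this
    obtain ⟨d, hd, e⟩ := this
    exact ⟨d, hd, add_mem (hT _ (sgn_mono hd) u hu) hu, e⟩
  by_cases a : u.1 = 0
  · exact k1 u hu h0 h1 a
  obtain ⟨d, hd, b⟩ := k2 u hu a
  by_cases a' : (κ.act (sgnAut d hd) u + u).1 = 0
  · exact k1 _ b.1 b.2.1 b.2.2 a'
  obtain ⟨d', hd', b'⟩ := k2 _ b.1 a'
  exact k1 _ b'.1 b'.2.1 b'.2.2 (sgn_perp h hd' (by
    rw [om_add_left, om_act_left, act_w0_iff.2 (inv_mem (sgn_mono hd)), z2_add_self]))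

theorem perp_le_of {u : V24} (hu : u ∈ T) (h0 : u.1 ≠ 0) {v : V24} (hv : om v (w0 κ) = 0) : v ∈ T := by
  refine (perp_perp T).le fun x hx => ?_
  by_contra k
  exact h0 (fst_eq_zero fun w hw => (om_comm _ _).trans (v1_le_of h (T := perp T) (fun g hg x hx y hy => by
    rw [om_act_left, hx _ (hT _ (inv_mem hg) y hy)]) hx (by rintro rfl; simp at k) (by rintro rfl; exact k hv) hw u hu))

theorem strong_mod {v : V24} (hv : ∀ g ∈ monoGrp, κ.act g v + v ∈ T) (h2 : v ∉ T) (h0 : v ≠ 0) (h1 : v ≠ w0 κ) :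
    (∀ u, om u (w0 κ) = 0 → u ∈ T) ∧ om v (w0 κ) = 1 := by
  have k1 : v.1 ≠ 0 := fun k => by
    obtain ⟨σ, i, j, ij, e⟩ := exists_perm_pair h k h0 h1
    exact h2 (v1_le_of h hT (e ▸ hv _ (perm_mono σ)) (pair_ne ij 1).1 (by simpa using (pair_ne ij 1).2) k)
  obtain ⟨g, hg, e⟩ : ∃ g ∈ monoGrp, (κ.act g v + v).1 ≠ 0 := by
    by_contra k
    push Not at k
    have k2 : ∀ g ∈ monoGrp, ∀ u : V24, u.1 = 0 → om (κ.act g u) v = om u v := fun g hg u hu => by
      have := om_fst hu (k _ (inv_mem hg))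
      rw [om_add_right, ← om_act_left] at this
      linear_combination this - z2_add_self (om u v)
    obtain ⟨σ, i, j, ij, e⟩ := exists_perm_pair h (v := lam κ none + lam κ (some 0)) (by simp [h.lam_fst, w_add_self])
      (pair_ne (by decide) 1).1 (by simpa using (pair_ne (by decide) 1).2)
    refine k1 (fst_eq_zero fun w hw => (om_comm _ _).trans (v1_le_of h (T := {
      carrier := {u | u.1 = 0 ∧ om u v = 0}
      zero_mem' := by simp
      add_mem' := fun a b => ⟨by simp [a.1, b.1], by rw [om_add_left, a.2, b.2, add_zero]⟩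
      neg_mem' := fun {a} ha => by rwa [neg_eq_of_add_eq_zero_right (ww_add_self a)] })
      (fun g hg u hu => ⟨h.act_fst hg hu.1, (k2 g hg u hu.1).trans hu.2⟩) (u := lam κ i + lam κ j)
      ⟨by simp [h.lam_fst, w_add_self], ?_⟩ (pair_ne ij 1).1 (by simpa using (pair_ne ij 1).2) hw).2)
    rw [← e, om_add_left, k2 _ (perm_mono σ) _ (by simp [h.lam_fst, w_add_self]), z2_add_self]
  have k2 := fun u => perp_le_of h hT (hv g hg) e (v := u)
  exact ⟨k2, (z2_cases _).resolve_left fun k => h2 (k2 v k)⟩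

end CfsgLib.MonRec
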