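import Mathlib
import Cfsg.Agent.Lib.MonRec.TrB
import Cfsg.Agent.Lib.MonRec.TrC
import Cfsg.Agent.Lib.MonRec.TrE

/-! # The subgroup `N ⊓ C` is the monomial subgroup -/

set_option autoImplicit false

namespace CfsgLib.MonRec

open Cfsg CfsgLib.Leech CfsgLib.MType CfsgLib.Mon CfsgLib.Mon.Mult Subgroup Equiv
open scoped Pointwise commutatorElement Matrix

variable {κ : Coord} {G : Type*} [Group G] {θ : Chat κ →* G}

theorem act_co1 {g g' : Co0} (h : (g : Spor.Co1) = g') (v : V24) : κ.act g v = κ.act g' v := by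
  rcases mk_eq_mk_co1.1 h with rfl | rfl <;> simp [κ.act_mul]

theorem PP.conj_sgn {g : Co0} {σ : M24} (h : PP g σ) {c : Finset GolayPt} (hc : IsCW c) :
    g * sgnAut c hc * g⁻¹ = sgnAut (σ • c) (isCW_smul hc σ) := by
  obtain ⟨d, hd, τ, rfl⟩ := mem_monoGrp_of_forall g fun a => ⟨_, h a⟩
  obtain rfl := (pp_mono d hd τ).unique h
  rw [mul_inv_eq_iff_eq_mul, mul_assoc, permAut_mul_sgnAut, ← mul_assoc, ← mul_assoc, sgnAut_mul, sgnAut_mul]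
  simp only [symmDiff_comm d]

/-- the image of the Pauli group -/
noncomputable def Qt (θ : Chat κ →* G) : Subgroup G := (Chat.toCo0 κ).ker.map θ

theorem mem_Qt {g : G} : g ∈ Qt θ ↔ ∃ e v, g = θ (qh κ e v) :=
  ⟨by rintro ⟨x, a, rfl⟩; obtain ⟨e, v, rfl⟩ := Chat.eq_qh (x := x) a; exact ⟨e, v, rfl⟩,
    by rintro ⟨e, v, rfl⟩; exact ⟨_, rfl, rfl⟩⟩

theorem qh_mem_Qt (e : ZMod 2) (v : V24) : θ (qh κ e v) ∈ Qt θ := ⟨_, rfl, rfl⟩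

theorem th_conj (θ : Chat κ →* G) (x : Chat κ) (e : ZMod 2) (v : V24) :
    θ x * θ (qh κ e v) * (θ x)⁻¹ = θ (qh κ (e + x.ε v) (κ.act x.g v)) := by
  rw [← map_inv, ← map_mul, ← map_mul, Chat.conj_qh]

theorem th_comm (θ : Chat κ →* G) (x : Chat κ) (e : ZMod 2) (v : V24) :
    ∃ e', ⁅θ x, θ (qh κ e v)⁆ = θ (qh κ e' (κ.act x.g v + v)) :=
  ⟨_, by rw [commutatorElement_def, th_conj, ← map_inv, qh_inv, ← map_mul, qh_mul]⟩

theorem th_z (θ : Chat κ →* G) (e : ZMod 2) : θ (qh κ e 0) = 1 ∨ θ (qh κ e 0) = θ (qh κ 1 0) := by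
  rcases z2_cases e with rfl | rfl <;> simp

theorem th_zz (θ : Chat κ →* G) : θ (qh κ 1 0) * θ (qh κ 1 0) = 1 := by
  rw [← map_mul, qh_sq]; simp [qf]

theorem Qt_comm {a b : G} (ha : a ∈ Qt θ) (hb : b ∈ Qt θ) : ⁅a, b⁆ = 1 ∨ ⁅a, b⁆ = θ (qh κ 1 0) := by
  obtain ⟨e, v, rfl⟩ := mem_Qt.1 ha
  obtain ⟨e', w, rfl⟩ := mem_Qt.1 hb
  rw [← map_commutatorElement, commutator_qh]
  exact th_z θ _

theorem qh_mem_of {X : Subgroup G} (hz : θ (qh κ 1 0) ∈ X) {e e' : ZMod 2} {v : V24} (h : θ (qh κ e v) ∈ X) :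
    θ (qh κ e' v) ∈ X := by
  have := mul_mem h hz
  rw [← map_mul, qh_mul_zh] at this
  rcases z2_cases e with rfl | rfl <;> rcases z2_cases e' with rfl | rfl <;> assumption

theorem two_of_g {X : Subgroup (Chat κ)} (h : ∀ x ∈ X, ∃ k, x.g ^ 2 ^ k = 1) : IsPGroup 2 X := fun x => by
  obtain ⟨k, e⟩ := h x x.2
  obtain ⟨a, v, e'⟩ := Chat.eq_qh (x := x.1 ^ 2 ^ k) ((map_pow (Chat.toCo0 κ) _ _).trans e)
  refine ⟨k + 2, Subtype.ext ?_⟩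
  rw [coe_pow, pow_add, pow_mul, e', show 2 ^ 2 = 2 * 2 from rfl, pow_mul, sq, sq, qh_sq, qh_sq]
  simp [qf]

theorem exists_om_perp : ∃ u v, om u (w0 κ) = 0 ∧ om v (w0 κ) = 0 ∧ om u v = 1 := by
  have := mt (perp1 (u := w0 κ) (m := lam κ none + lam κ (some 0))) (not_or.2 ⟨(pair_ne (by decide) 1).1, by
    simpa using (pair_ne (by decide) 1).2⟩)
  push Not at this
  obtain ⟨u, a, b⟩ := this
  exact ⟨_, u, by simp [om_add_left, om_lam_w0, z2_add_self], a, (z2_cases _).resolve_left b⟩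

/-- `θ` is faithful up to the double cover -/
structure Lt (θ : Chat κ →* G) : Prop where
  intro ::
  inj : ∀ {a b v w}, θ (qh κ a v) = θ (qh κ b w) → a = b ∧ v = w
  ker : ∀ x, θ x = 1 → mk κ x = 1 ∨ mk κ x = z κ
  mh : θ (mh κ) = 1 ∨ θ (mh κ) = θ (qh κ 1 0)

theorem Lt.mem_Q (h : Lt θ) {x : Chat κ} : θ x ∈ Qt θ ↔ (x.g : Spor.Co1) = 1 := by
  rw [mk_eq_one_co1]
  refine ⟨fun ⟨y, a, b⟩ => ?_, fun k => k.elim (fun k => ⟨x, k, rfl⟩) fun k => ?_⟩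
  · have : mk κ (y⁻¹ * x) ∈ Q κ := by
      rcases h.ker (y⁻¹ * x) (by rw [map_mul, map_inv, b, inv_mul_cancel]) with e | e <;> rw [e]
      exacts [one_mem _, z_mem_Q]
    simpa [show y.g = 1 from a] using mk_mem_Q.1 this
  · refine ((Qt θ).mul_mem_cancel_right (x := θ (Mon.mh κ)) ?_).1 ⟨x * Mon.mh κ, by simp [k, negAut_mul_self], map_mul _ _ _⟩
    rcases h.mh with e | e <;> rw [e]
    exacts [one_mem _, qh_mem_Qt _ _]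

theorem Lt.two (h : Lt θ) {X : Subgroup G} (hX : IsPGroup 2 X) : IsPGroup 2 (X.comap θ) := two_of_g fun x hx => by
  obtain ⟨k, e⟩ := hX ⟨_, hx⟩
  have := mk_eq_one_co1.1 (h.mem_Q.1 (show θ (x ^ 2 ^ k) ∈ _ by
    rw [map_pow, show θ x ^ 2 ^ k = 1 from congrArg Subtype.val e]; exact one_mem _))
  refine ⟨k + 1, ?_⟩
  rw [pow_succ, pow_mul, show x.g ^ 2 ^ k = (x ^ 2 ^ k).g from (map_pow (Chat.toCo0 κ) _ _).symm, sq]
  rcases this with e | e <;> rw [e]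
  exacts [one_mul _, negAut_mul_self]

theorem Lt.z_ne (h : Lt θ) : θ (qh κ 1 0) ≠ 1 := fun e =>
  absurd (h.inj (e.trans (by simp : _ = θ (qh κ 0 0)))).1 one_ne_zero

/-- the three subgroups in coordinates -/
structure Su (C N L K R : Subgroup G) (φ : N →* Perm (Fin 3)) (ψ : N →* M24) (σ : Perm (Fin 3))
    (χ : L →* Matrix.SpecialLinearGroup (Fin 3) (ZMod 2)) (θ : Chat κ →* G) : Prop where
  intro ::
  std : Std κ
  I : NI C N K R φ ψ σ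
  J : LI C N L χ
  lt : Lt θ
  rg : θ.range = C
  g : ∃ x, θ x ∈ K ∧ x.g = g23 ∧ θ x ^ 23 = 1

namespace Su

variable {C N L K R : Subgroup G} {φ : N →* Perm (Fin 3)} {ψ : N →* M24} {σ : Perm (Fin 3)}
  {χ : L →* Matrix.SpecialLinearGroup (Fin 3) (ZMod 2)} (S : Su C N L K R φ ψ σ χ θ)
include S

theorem mem (x : Chat κ) : θ x ∈ C := S.rg.le ⟨x, rfl⟩

theorem ex {c : G} (hc : c ∈ C) : ∃ x, θ x = c := S.rg.ge hc

theorem fin : Finite C := S.rg ▸ Finite.of_surjective _ θ.rangeRestrict_surjective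

theorem hz (c : G) (hc : c ∈ C) : c * θ (qh κ 1 0) = θ (qh κ 1 0) * c := by
  obtain ⟨x, rfl⟩ := S.ex hc
  rw [← map_mul, qh_comm, map_mul]

theorem nQ {c a : G} (hc : c ∈ C) (ha : a ∈ Qt θ) : c * a * c⁻¹ ∈ Qt θ := by
  obtain ⟨x, rfl⟩ := S.ex hc
  obtain ⟨e, v, rfl⟩ := mem_Qt.1 ha
  exact th_conj θ x e v ▸ qh_mem_Qt _ _

theorem weak {s : G} (h1 : s ∈ R) (h2 : s ∈ C) (h3 : s ∉ K)
    (h4 : ∀ p ∈ K ⊓ R, ⁅p, s⁆ = 1 ∨ ⁅p, s⁆ = θ (qh κ 1 0)) : False := by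
  obtain ⟨t, tL, tR, t1, t3⟩ := S.J.exists_t S.I
  obtain ⟨D, a, b⟩ := S.J.exists_D S.I tL tR t1 t3 (th_zz θ) S.hz
  exact S.I.weak tR t1 t3 (th_zz θ) S.hz a b h1 h2 h3 h4

theorem QR {a : G} (h1 : a ∈ Qt θ) (h2 : a ∈ N) : a ∈ R :=
  S.I.le_R (X := Qt θ ⊓ N) inf_le_right ((IsPGroup.map (two_of_g fun x hx => ⟨0, by simpa using hx⟩) θ).to_inf_left)
    (fun k hk x hx => ⟨S.nQ (S.I.KC hk) hx.1, N.mul_mem (N.mul_mem (S.I.KN hk) hx.2) (N.inv_mem (S.I.KN hk))⟩) ⟨h1, h2⟩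

theorem exists_s : ∃ e v, θ (qh κ e v) ∈ R ∧ θ (qh κ e v) ∉ K := by
  obtain ⟨x, x1, x2, x3⟩ := S.g
  obtain ⟨s, s1, s2, s3⟩ := S.I.ex
  have := S.fin
  have h1 : {r | r ∈ R ∧ r ∈ C ∧ r ∉ K} = (s * ·) '' (K ⊓ R : Subgroup G) := Set.ext fun r =>
    ⟨fun k => ⟨s⁻¹ * r, ⟨S.I.idx (inv_mem (S.I.RN s1)) (inv_mem s2) (by simpa using s3) (S.I.RN k.1) k.2.1 k.2.2,
      R.mul_mem (R.inv_mem s1) k.1⟩, by simp⟩, by
      rintro ⟨p, a, rfl⟩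
      exact ⟨R.mul_mem s1 a.2, C.mul_mem s2 (S.I.KC a.1), fun k => s3 ((K.mul_mem_cancel_right a.1).1 k)⟩⟩
  have h2 := ncard_modEq (S := {r | r ∈ R ∧ r ∈ C ∧ r ∉ K}) ((Set.toFinite (C : Set G)).subset fun r k => k.2.1)
    (f := fun r => θ x * r * (θ x)⁻¹) (fun r k => ⟨S.I.nR (S.I.KN x1) k.1, C.mul_mem (C.mul_mem (S.mem x) k.2.1)
      (C.inv_mem (S.mem x)), fun e => k.2.2 ((K.mul_mem_cancel_left x1).1 ((K.mul_mem_cancel_right (inv_mem x1)).1 e))⟩)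
    fun r _ => by rw [iter_conj, x3]; simp
  obtain ⟨r, ⟨r1, r2, r3⟩, r4⟩ : ∃ r, r ∈ {r | r ∈ R ∧ r ∈ C ∧ r ∉ K} ∧ θ x * r * (θ x)⁻¹ = r := by
    by_contra e
    have : Finite ↥(K ⊓ R) := Finite.of_injective _ (inclusion_injective (inf_le_left.trans S.I.KC))
    obtain ⟨k, hk⟩ := S.I.two.exists_card_eq
    rw [Set.sep_eq_empty_iff_mem_false.2 fun r a b => e ⟨r, a, b⟩, h1, Set.ncard_image_of_injective _ (mul_right_injective s),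
      ← Nat.card_coe_set_eq, Set.ncard_empty, SetLike.coe_sort_coe, hk] at h2
    exact absurd (fact23.out.dvd_of_dvd_pow (Nat.modEq_zero_iff_dvd.1 h2)) (by norm_num)
  obtain ⟨y, rfl⟩ := S.ex r2
  obtain ⟨k, hk⟩ := S.I.two ⟨θ y * θ y, S.I.idx (S.I.RN r1) r2 r3 (S.I.RN r1) r2 r3, R.mul_mem r1 r1⟩
  obtain ⟨e, v, h3⟩ := mem_Qt.1 (S.lt.mem_Q.2 (f23' (a := y.g) (k := k + 1) (by
    have := S.lt.mem_Q.1 (show θ (x * y * x⁻¹ * y⁻¹) ∈ _ by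
      rw [map_mul, map_mul, map_mul, map_inv, map_inv, r4, mul_inv_cancel]; exact one_mem _)
    exact Eq.symm (by simpa [x2, mul_inv_eq_iff_eq_mul] using this)) (by
    have := S.lt.mem_Q.1 (show θ (y ^ 2 ^ (k + 1)) ∈ _ by
      rw [map_pow, pow_succ', pow_mul, sq, show (θ y * θ y) ^ 2 ^ k = 1 from congrArg Subtype.val hk]; exact one_mem _)
    rwa [show (y ^ 2 ^ (k + 1)).g = _ from map_pow (Chat.toCo0 κ) _ _] at this)))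
  exact ⟨e, v, h3 ▸ r1, h3 ▸ r3⟩

theorem not_le : ¬ K ⊓ R ≤ Qt θ := fun h =>
  let ⟨_, _, a, b⟩ := S.exists_s; S.weak a (S.mem _) b fun _ hp => Qt_comm (h hp) (qh_mem_Qt _ _)

theorem mono {x : Chat κ} (hx : θ x ∈ N) : x.g ∈ monoGrp := by
  obtain ⟨p, p1, p2⟩ := SetLike.not_le_iff_exists.1 S.not_le
  obtain ⟨y, rfl⟩ := S.ex (S.I.KC p1.1)
  obtain ⟨g, g1, g2, -⟩ := S.g
  refine le_mono (Y := (N.comap θ).map (Chat.toCo0 κ)) ⟨g, S.I.KN g1, g2⟩ ((S.lt.two S.I.two).map (Chat.toCo0 κ)) ?_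
    ⟨y, p1, rfl⟩ (mt S.lt.mem_Q.2 p2) ⟨x, hx, rfl⟩
  rintro _ ⟨a, ha, rfl⟩ _ ⟨b, hb, rfl⟩
  exact ⟨a * b * a⁻¹, by simpa [mem_comap] using And.intro (S.I.nK ha hb.1) (S.I.nR ha hb.2), by simp⟩

theorem perm : (∀ τ, ∃ x, θ x ∈ K ∧ PP x.g τ) ∧ ∀ x, θ x ∈ K ⊓ R → x.g ∈ signs := by
  obtain ⟨ρ, hρ⟩ := exists_hom_of_rel (fun (x : K.comap θ) τ => PP x.1.g τ)
    (fun x => let ⟨d, hd, τ, e⟩ := S.mono (S.I.KN x.2); ⟨τ, e ▸ pp_mono d hd τ⟩) (fun _ _ _ => PP.unique)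
    fun _ _ _ _ => PP.mul
  let f := ψ.comp ((θ.comp (K.comap θ).subtype).codRestrict N fun x => S.I.KN x.2)
  have h1 : Function.Surjective f := fun b => by
    obtain ⟨n, a, rfl⟩ := S.I.surj 1 b
    obtain ⟨x, e⟩ := S.ex (S.I.KC ((S.I.memK n).2 a))
    exact ⟨⟨x, show θ x ∈ K from e ▸ (S.I.memK n).2 a⟩, congrArg ψ (Subtype.ext e)⟩
  have h2 : ρ.ker ≤ f.ker := fun x hx => (S.I.memR ⟨_, S.I.KN x.2⟩).1 (S.I.le_R
    (X := (ρ.ker.map (K.comap θ).subtype).map θ) (by rintro _ ⟨_, ⟨y, -, rfl⟩, rfl⟩; exact S.I.KN y.2)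
    ((two_of_g (by
      rintro _ ⟨y, a, rfl⟩
      exact ⟨1, by simpa [sq] using signs_mul_self (mem_signs_of_pp ((hρ y 1).1 a))⟩)).map θ) (by
      rintro k hk _ ⟨_, ⟨y, a, rfl⟩, rfl⟩
      obtain ⟨u, rfl⟩ := S.ex (S.I.KC hk)
      exact ⟨_, ⟨_, ρ.normal_ker.conj_mem y a ⟨u, hk⟩, rfl⟩, by simp⟩) ⟨_, ⟨x, hx, rfl⟩, rfl⟩)
  have h3 := index_dvd_of_le h2
  rw [index_ker, index_ker, MonoidHom.range_eq_top.2 h1, card_top] at h3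
  have h4 := eq_top_of_le_card _ (Nat.le_of_dvd Nat.card_pos h3)
  have h5 : ¬ ρ.ker < f.ker := fun k => by
    simpa [index_ker, MonoidHom.range_eq_top.2 h1, h4] using index_strictAnti k
  exact ⟨fun τ => let ⟨x, e⟩ := h4.ge (mem_top τ); ⟨x, x.2, (hρ x τ).1 e⟩, fun x hx => mem_signs_of_pp
    ((hρ ⟨x, hx.1⟩ 1).1 ((h2.eq_of_not_lt h5).ge ((S.I.memR ⟨_, S.I.KN hx.1⟩).1 hx.2)))⟩

theorem sg {X : Subgroup G} (h1 : X ≤ K ⊓ R) (h2 : ∀ k ∈ K, ∀ x ∈ X, k * x * k⁻¹ ∈ X) (h3 : ¬ X ≤ Qt θ)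
    {d : Finset GolayPt} (hd : IsCW d) : ∃ x, θ x ∈ X ∧ (x.g : Spor.Co1) = sgnAut d hd := by
  obtain ⟨p, p1, p2⟩ := SetLike.not_le_iff_exists.1 h3
  obtain ⟨y, rfl⟩ := S.ex (S.I.KC (h1 p1).1)
  obtain ⟨c, hc, e⟩ := S.perm.2 y (h1 p1)
  have h0 : ∃ c hc, (0 : GolayPt → ZMod 2) = Golay.ind c ∧ ∃ x, θ x ∈ X ∧ (x.g : Spor.Co1) = sgnAut c hc :=
    ⟨∅, isCW_empty, M24E.ind_empty.symm, 1, by simp, by simp [sgnAut_empty]⟩
  let W : Submodule (ZMod 2) (GolayPt → ZMod 2) :=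
    { carrier := {w | ∃ c hc, w = Golay.ind c ∧ ∃ x, θ x ∈ X ∧ (x.g : Spor.Co1) = sgnAut c hc}
      zero_mem' := h0
      add_mem' := by
        rintro _ _ ⟨c, hc, rfl, x, a, b⟩ ⟨d, hd, rfl, y, a', b'⟩
        exact ⟨_, hc.symmDiff hd, (Golay.ind_symmDiff c d).symm, x * y, map_mul θ x y ▸ mul_mem a a', by
          rw [← sgnAut_mul c d hc hd]; simp [b, b']⟩
      smul_mem' := fun c w hw => by
        rcases z2_cases c with rfl | rfl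
        · rwa [zero_smul]
        · rwa [one_smul] }
  obtain ⟨c', hc', k, x, a, b⟩ := M24E.golay_le_of_word (W := W) (by
      rintro τ hτ _ ⟨c, hc, rfl, x, a, b⟩
      obtain ⟨u, u1, u2⟩ := S.perm.1 ⟨τ, hτ⟩
      exact ⟨_, isCW_smul hc ⟨τ, hτ⟩, M24E.ind_smul τ c, u * x * u⁻¹, by simpa using h2 _ u1 _ a, by
        rw [← PP.conj_sgn u2 hc]; simp [b]⟩) hc ⟨c, hc, rfl, y, p1, by rw [e]⟩
    (by rintro rfl; exact p2 (S.lt.mem_Q.2 (mk_eq_one_co1.2 (Or.inl (e.trans sgnAut_empty)))))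
    (by rintro rfl; exact p2 (S.lt.mem_Q.2 (mk_eq_one_co1.2 (Or.inr e)))) (Golay.mem_codeSets_iff.1 hd)
  obtain rfl : d = c' := by rw [← Golay.support₂_ind d, k, Golay.support₂_ind]
  exact ⟨x, a, b⟩

theorem km {g : Co0} (hg : g ∈ monoGrp) : ∃ x, θ x ∈ K ∧ (x.g : Spor.Co1) = g := by
  obtain ⟨d, hd, τ, rfl⟩ := hg
  obtain ⟨x, a, b⟩ := S.perm.1 τ
  obtain ⟨c, hc, e⟩ := mem_signs_of_pp (by simpa using (pp_mono d hd τ).mul b.inv)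
  obtain ⟨y, a', b'⟩ := S.sg le_rfl (fun k hk x hx => ⟨S.I.nK (S.I.KN hk) hx.1, S.I.nR (S.I.KN hk) hx.2⟩) S.not_le hc
  exact ⟨y * x, map_mul θ y x ▸ mul_mem a'.1 a, by simp [b', ← e]⟩

theorem qK : (∀ e u, θ (qh κ e u) ∈ K ↔ om u (w0 κ) = 0) ∧ Qt θ ≤ N := by
  obtain ⟨e, v, s1, s2⟩ := S.exists_s
  let T : AddSubgroup V24 :=
    { carrier := {v | ∃ e, θ (qh κ e v) ∈ K}
      zero_mem' := ⟨0, by simp⟩
      add_mem' := fun ⟨e, a⟩ ⟨e', b⟩ => ⟨_, by rw [← qh_mul, map_mul]; exact mul_mem a b⟩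
      neg_mem' := fun {a} ha => by rwa [neg_eq_of_add_eq_zero_right (ww_add_self a)] }
  have h1 : v ∉ T := fun ⟨e', k⟩ => by
    obtain rfl : e = e' + 1 := by
      rcases z2_cases e with rfl | rfl <;> rcases z2_cases e' with rfl | rfl <;> first | rfl | exact absurd k s2
    rw [← qh_mul_zh, map_mul] at s1 s2
    have := (N.mul_mem_cancel_left (S.I.KN k)).1 (S.I.RN s1)
    exact S.weak (S.QR (qh_mem_Qt _ _) this) (S.mem _) (fun a => s2 (mul_mem k a)) fun p hp =>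
      Or.inl (commutatorElement_eq_one_iff_mul_comm.2 (S.hz p (S.I.KC hp.1)))
  obtain ⟨h2, h3⟩ := strong_mod S.std (T := T) (fun g hg u ⟨e, k⟩ => by
      obtain ⟨x, a, b⟩ := S.km hg
      exact ⟨_, by rw [← act_co1 b, ← th_conj]; exact S.I.nK (S.I.KN a) k⟩) (fun g hg => by
      obtain ⟨x, a, b⟩ := S.km hg
      obtain ⟨e', k⟩ := th_comm θ x e v
      refine ⟨e', ?_⟩
      rw [← act_co1 b, ← k, commutatorElement_def, mul_assoc, mul_assoc, ← mul_assoc (θ (qh κ e v))]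
      exact mul_mem a (S.I.nK (S.I.RN s1) (inv_mem a))) h1 (by rintro rfl; exact h1 (zero_mem T)) (by
      rintro rfl
      refine S.weak s1 (S.mem _) s2 fun p hp => ?_
      obtain ⟨x, rfl⟩ := S.ex (S.I.KC hp.1)
      obtain ⟨e', k⟩ := th_comm θ x e (w0 κ)
      rw [k, act_w0_iff.2 (S.mono (S.I.KN hp.1)), ww_add_self]
      exact th_z θ _)
  have h4 : θ (qh κ 1 0) ∈ K := by
    obtain ⟨u, u', a, a', b⟩ := exists_om_perp (κ := κ)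
    obtain ⟨e1, k1⟩ := h2 u a
    obtain ⟨e2, k2⟩ := h2 u' a'
    have := K.mul_mem (S.I.nK (S.I.KN k1) k2) (inv_mem k2)
    rwa [← commutatorElement_def, ← map_commutatorElement, commutator_qh, b] at this
  have h5 : ∀ e u, om u (w0 κ) = 0 → θ (qh κ e u) ∈ K := fun e u k => qh_mem_of h4 (h2 u k).choose_spec
  have h6 : ∀ e' u, om u (w0 κ) = 1 → ∃ k ∈ K, θ (qh κ e' u) = θ (qh κ e v) * k := fun e' u k =>
    ⟨_, h5 (e + e' + bet v (v + u)) (v + u) (by rw [om_add_left, h3, k, z2_add_self]), by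
      rw [← map_mul, qh_mul, ← add_assoc v, ww_add_self, zero_add, show ∀ a b c : ZMod 2, a + (a + b + c) + c = b by decide]⟩
  refine ⟨fun e' u => ⟨fun k => (z2_cases _).resolve_right fun a => ?_, h5 e' u⟩, fun x hx => ?_⟩
  · obtain ⟨l, b, c⟩ := h6 e' u a
    exact s2 ((K.mul_mem_cancel_right b).1 (c ▸ k))
  · obtain ⟨e', u, rfl⟩ := mem_Qt.1 hx
    rcases z2_cases (om u (w0 κ)) with a | a
    · exact S.I.KN (h5 e' u a)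
    · obtain ⟨l, b, c⟩ := h6 e' u a
      exact c ▸ mul_mem (S.I.RN s1) (S.I.KN b)

theorem conj_t {t : G} (tL : t ∈ L) (tR : t ∈ R) (t1 : t ≠ 1) {m : ℕ} (t3 : t ^ 3 ^ m = 1) :
    (∃ e, t * θ (qh κ 1 0) * t⁻¹ = θ (qh κ e (w0 κ))) ∧
      (∀ d hd, ∃ x, t⁻¹ * θ x * t ∈ Qt θ ∧ (x.g : Spor.Co1) = sgnAut d hd) ∧
      ∀ i j, i ≠ j → ∃ e, t⁻¹ * θ (qh κ e (lam κ i + lam κ j + w0 κ)) * t ∈ Qt θ := by
  have tN := S.I.RN tR
  let X := (Qt θ ⊓ K).comap (MulAut.conj t⁻¹).toMonoidHom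
  have mX : ∀ x, x ∈ X ↔ t⁻¹ * x * t ∈ Qt θ ⊓ K := fun x => by simp [X, mem_comap]
  have h0 : ∀ k ∈ K, ∀ x ∈ Qt θ ⊓ K, k * x * k⁻¹ ∈ Qt θ ⊓ K := fun k hk x hx =>
    ⟨S.nQ (S.I.KC hk) hx.1, S.I.nK (S.I.KN hk) hx.2⟩
  have h1 : X ≤ K ⊓ R := fun x hx => by
    have := (mX x).1 hx
    simpa [mul_assoc] using And.intro (S.I.nK tN this.2) (S.I.nR tN (S.QR this.1 (S.I.KN this.2)))
  have h2 : ∀ k ∈ K, ∀ x ∈ X, k * x * k⁻¹ ∈ X := fun k hk x hx => (mX _).2 (by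
    simpa only [mul_assoc, inv_inv, mul_inv_rev, mul_inv_cancel_left] using h0 _ (S.I.nK (inv_mem tN) hk) _ ((mX x).1 hx))
  have h3 : ¬ X ≤ Qt θ := fun h => by
    obtain ⟨e, v, s1, s2⟩ := S.exists_s
    have := S.fin
    have : Finite ↥(Qt θ ⊓ K) := Finite.of_injective _ (inclusion_injective (inf_le_right.trans S.I.KC))
    have k1 : ∀ x ∈ Qt θ ⊓ K, t * x * t⁻¹ ∈ Qt θ ⊓ K := fun x hx =>
      ⟨h ((mX _).2 (by simpa only [mul_assoc, inv_mul_cancel, mul_one, inv_mul_cancel_left] using hx)), S.I.nK tN hx.2⟩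
    have k2 : ∀ n ∈ N, ∀ x ∈ Qt θ ⊓ K, n * x * n⁻¹ ∈ Qt θ ⊓ K := fun n hn x => (mem_normalizer_iff.1
      (S.I.gen (fun k hk => mem_normalizer_fintype (h0 k hk)) (S.I.RN s1) (S.mem _) s2 (mem_normalizer_fintype
        fun x hx => ⟨S.nQ (S.mem _) hx.1, S.I.nK (S.I.RN s1) hx.2⟩) tN (S.I.tC tR t1 t3) (mem_normalizer_fintype k1) hn) x).1
    have k3 : ∀ n ∈ N, n * θ (qh κ 1 0) = θ (qh κ 1 0) * n := fun n hn => mem_centralizer_singleton_iff.1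
      (S.I.gen (fun k hk => mem_centralizer_singleton_iff.2 (S.hz k (S.I.KC hk))) (S.I.RN s1) (S.mem _) s2
        (mem_centralizer_singleton_iff.2 (S.hz _ (S.mem _))) tN (S.I.tC tR t1 t3) (mem_centralizer_singleton_iff.2 (by
          obtain ⟨u, u', a, a', b⟩ := exists_om_perp (κ := κ)
          have := Qt_comm (k1 _ ⟨qh_mem_Qt 0 u, (S.qK.1 _ _).2 a⟩).1 (k1 _ ⟨qh_mem_Qt 0 u', (S.qK.1 _ _).2 a'⟩).1
          rw [← conjugate_commutatorElement, ← map_commutatorElement, commutator_qh, b] at this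
          exact mul_inv_eq_iff_eq_mul.1 (this.resolve_left (by simpa using S.lt.z_ne)))) hn)
    obtain ⟨D, ⟨p, hp⟩, hD⟩ := S.J.exists_D S.I tL tR t1 t3 (th_zz θ) S.hz
    have k4 := S.I.comm_t tR t1 t3 (X := K ⊓ R) (fun n hn x hx => ⟨S.I.nK hn hx.1, S.I.nR hn hx.2⟩) k2 s1 (S.mem _) s2
      (fun x hx => ⟨(Qt θ).mul_mem (S.nQ (S.I.KC hx.1) (qh_mem_Qt _ _)) (inv_mem (qh_mem_Qt _ _)), by
        rw [commutatorElement_def, mul_assoc, mul_assoc, ← mul_assoc (θ (qh κ e v))]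
        exact K.mul_mem hx.1 (S.I.nK (S.I.RN s1) (inv_mem hx.1))⟩) (hD p hp).1
    have k5 := S.I.comm_t tR t1 t3 k2 (V := zpowers (θ (qh κ 1 0))) (by
        rintro n hn _ ⟨i, rfl⟩
        exact ⟨i, by simp only [← conj_zpow, k3 n hn, mul_inv_cancel_right]⟩) s1 (S.mem _) s2
      (fun x hx => by
        rcases Qt_comm hx.1 (qh_mem_Qt e v) with a | a <;> rw [a]
        exacts [one_mem _, mem_zpowers _]) k4
    obtain ⟨-, -, a, b⟩ := hD _ (hD _ (hD p hp).2.1).2.1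
    exact (zpowers_cases (th_zz θ) k5).elim a (by simpa using b 1 (one_mem _))
  have h4 : ∀ i j, i ≠ j → ∃ e, θ (qh κ e (lam κ i + lam κ j + w0 κ)) ∈ X := fun i j ij => by
    obtain ⟨d, hd, u, a, b⟩ := exists_duad (κ := κ) ij
    obtain ⟨x, x1, x2⟩ := S.sg h1 h2 h3 hd
    obtain ⟨e, k⟩ := th_comm θ x 0 u
    refine ⟨e, ?_⟩
    rw [← b, ← act_co1 x2, ← k, commutatorElement_def, mul_assoc, mul_assoc, ← mul_assoc (θ (qh κ 0 u))]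
    exact mul_mem x1 (h2 _ ((S.qK.1 _ _).2 a) _ (inv_mem x1))
  refine ⟨?_, fun d hd => (S.sg h1 h2 h3 hd).imp fun x k => ⟨((mX _).1 k.1).1, k.2⟩,
    fun i j ij => (h4 i j ij).imp fun e k => ((mX _).1 k).1⟩
  obtain ⟨c, hc, a, b⟩ := exists_cw_sep_two (a := none) (b := some 0) (by decide)
  obtain ⟨x, x1, x2⟩ := S.sg h1 h2 h3 hc
  obtain ⟨e, k⟩ := h4 none (some 0) (by decide)
  obtain ⟨e', l⟩ := th_comm θ x e (lam κ none + lam κ (some 0) + w0 κ)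
  rw [act_co1 x2, map_add, act_sgn_pair, if_pos a, if_neg b, act_w0_iff.2 (sgn_mono hc), add_zero,
    add_right_comm _ (w0 κ) (_ + _), ww_add_self, zero_add] at l
  have := Qt_comm ((mX _).1 x1).1 ((mX _).1 k).1
  rw [← inv_inv t, inv_inv t⁻¹, ← conjugate_commutatorElement, l] at this
  exact ⟨e', by
    rw [← this.resolve_left fun k => w0_ne_zero (S.lt.inj (b := 0) (w := 0) (by
      simpa [mul_assoc, inv_mul_eq_one] using k)).2]; group⟩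

theorem exists_t0 : ∃ t ∈ L, t ∈ R ∧ t ≠ 1 ∧ t ^ 3 ^ 4 = 1 ∧ t * θ (qh κ 1 0) * t⁻¹ = θ (qh κ 0 (w0 κ)) ∧
    t⁻¹ * θ (qh κ 1 0) * t = θ (qh κ 1 (w0 κ)) := by
  obtain ⟨t, tL, tR, t1, t3⟩ := S.J.exists_t S.I
  have t4 : t⁻¹ ^ 3 ^ 4 = 1 := by rw [inv_pow, t3, inv_one]
  obtain ⟨e, a⟩ := (S.conj_t tL tR t1 t3).1
  obtain ⟨e', b⟩ := (S.conj_t (inv_mem tL) (inv_mem tR) (inv_ne_one.2 t1) t4).1
  have : e ≠ e' := by
    rintro rfl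
    refine w0_ne_zero (S.lt.inj (a.symm.trans (c := θ (qh κ 1 0)) ?_)).2
    calc _ = t ^ 3 * (t⁻¹ * (t⁻¹ * θ (qh κ 1 0) * t⁻¹⁻¹) * t) * (t ^ 3)⁻¹ := by group
      _ = t ^ 3 * θ (qh κ 1 0) * (t ^ 3)⁻¹ := by rw [b, ← a]; group
      _ = _ := by rw [S.hz _ (S.I.KC (S.I.cube tR t1 t3)), mul_inv_cancel_right]
  rcases z2_cases e with rfl | rfl <;> rcases z2_cases e' with rfl | rfl
  exacts [absurd rfl this, ⟨t, tL, tR, t1, t3, a, by simpa using b⟩,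
    ⟨t⁻¹, inv_mem tL, inv_mem tR, inv_ne_one.2 t1, t4, b, by simpa using a⟩, absurd rfl this]

theorem cz {n : G} (hn : n ∈ N) (h : n * θ (qh κ 1 0) = θ (qh κ 1 0) * n) : n ∈ C := by
  obtain ⟨t, -, tR, t1, t3, a, b⟩ := S.exists_t0
  have k : ∀ g e, g * θ (qh κ 1 0) * g⁻¹ = θ (qh κ e (w0 κ)) → g * n ∉ C := fun g e a k =>
    w0_ne_zero (S.lt.inj (a.symm.trans (c := θ (qh κ 1 0)) (by
      rw [mul_inv_eq_iff_eq_mul, ← mul_left_inj n, mul_assoc, ← h, ← mul_assoc, S.hz _ k, mul_assoc]))).2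
  exact ((S.I.cos tR t1 t3 hn).resolve_right (not_or.2 ⟨k _ _ a, k _ _ (by simpa using b)⟩))

theorem mem_K {x : Chat κ} : θ x ∈ K ↔ x ∈ Nh κ := by
  have h1 : ∀ x, θ x ∈ K → x ∈ Nh κ := fun x hx => by
    obtain ⟨t, -, tR, -, -, a, -⟩ := S.exists_t0
    have := th_conj θ x 0 (w0 κ)
    rw [← a, show θ x * (t * θ (qh κ 1 0) * t⁻¹) * (θ x)⁻¹ =
      t * (t⁻¹ * θ x * t⁻¹⁻¹ * θ (qh κ 1 0) * (t⁻¹ * θ x * t⁻¹⁻¹)⁻¹) * t⁻¹ by group,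
      S.hz _ (S.I.KC (S.I.nK (inv_mem (S.I.RN tR)) hx)), mul_inv_cancel_right, a] at this
    exact mk_mem_Nxyz.2 ⟨by simpa using (S.lt.inj this).1.symm, S.mono (S.I.KN hx)⟩
  refine ⟨h1 x, fun hx => ?_⟩
  obtain ⟨y, a, b⟩ := S.km (mk_mem_Nxyz.1 hx).2
  obtain ⟨e, v, k⟩ := mem_Qt.1 (S.lt.mem_Q.2 (show ((y⁻¹ * x).g : Spor.Co1) = 1 by simp [b]))
  refine (K.mul_mem_cancel_left (inv_mem a)).1 ?_
  rw [← map_inv, ← map_mul, k, S.qK.1]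
  have := th_conj θ (y⁻¹ * x) 0 (w0 κ)
  rw [k, th_conj, Chat.ε_qh, (mk_mem_Nxyz.1 (mul_mem (inv_mem (h1 y a)) hx : y⁻¹ * x ∈ Nh κ)).1] at this
  simpa using (S.lt.inj this).1

theorem mem_N {x : Chat κ} (hx : x.g ∈ monoGrp) : θ x ∈ N := by
  obtain ⟨y, a, b⟩ := S.km hx
  have := S.qK.2 (S.lt.mem_Q.2 (show ((y⁻¹ * x).g : Spor.Co1) = 1 by simp [b]))
  rwa [map_mul, map_inv, N.mul_mem_cancel_left (inv_mem (S.I.KN a))] at this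

end Su

end CfsgLib.MonRec
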