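import Mathlib
import Cfsg.Agent.Lib.MonRec.TrF

/-! # Rigidity of the triality element inside `N` -/

set_option autoImplicit false

namespace CfsgLib.MonRec

open Cfsg CfsgLib.Leech CfsgLib.MType CfsgLib.Mon CfsgLib.Mon.Mult Subgroup
open scoped Pointwise commutatorElement Matrix

variable {κ : Coord} {G : Type*} [Group G] {N : Subgroup G} {θ : Chat κ →* G} {t : G}

/-- `N` normalizes the image of `Nh` and `t ∈ N` acts on `2^13` like the triality element -/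
structure Th2 (N : Subgroup G) (θ : Chat κ →* G) (t : G) : Prop where
  intro ::
  std : Std κ
  tN : t ∈ N
  qN : ∀ e v, θ (qh κ e v) ∈ N
  nrm : ∀ n ∈ N, ∀ b ∈ Nh κ, ∃ a ∈ Nh κ, n * θ b * n⁻¹ = θ a
  inj : ∀ {a b v w}, θ (qh κ a v) = θ (qh κ b w) → a = b ∧ v = w
  ker : ∀ x, θ x = 1 → mk κ x = 1 ∨ mk κ x = z κ
  mh : θ (mh κ) = 1 ∨ θ (mh κ) = θ (qh κ 1 0)
  t1 : ∀ e (v : V24), v.1 = 0 → t * θ (qh κ e v) * t⁻¹ = θ (qh κ (v.2 ⬝ᵥ a0 κ) (v + e • w0 κ))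

namespace Th2

variable (h : Th2 N θ t)
include h

theorem exists_a {b : Chat κ} (hb : b ∈ Nh κ) : ∃ a ∈ Nh κ, t * θ b * t⁻¹ = θ a := h.nrm t h.tN b hb

theorem exists_b {a : Chat κ} (ha : a ∈ Nh κ) : ∃ b ∈ Nh κ, t * θ b * t⁻¹ = θ a :=
  (h.nrm _ (inv_mem h.tN) a ha).imp fun b k => ⟨k.1, by rw [← k.2]; group⟩

theorem exact {e s : ZMod 2} {v w : V24} {c : C κ} (hv : v.1 = 0) (h1 : t * θ (qh κ e v) * t⁻¹ = θ (qh κ s w))
    (h2 : (q κ s w, c) ∈ Gam κ) : c = q κ e v := by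
  obtain ⟨rfl, rfl⟩ := h.inj (h1.symm.trans (h.t1 e v hv))
  exact gam_uniq h.std h2 (gam13 h.std e hv)

theorem step3 {a b : Chat κ} {c : C κ} (hb : b ∈ Nh κ) (h1 : t * θ b * t⁻¹ = θ a) (h2 : (mk κ a, c) ∈ Gam κ) :
    ∃ e v, v.1 = 0 ∧ c = mk κ b * q κ e v := by
  obtain ⟨e, v, h3, h4⟩ := cent13 h.std (c := (mk κ b)⁻¹ * c) fun v hv => by
    have h5 := mul_mem (mul_mem h2 (gam13 h.std 0 hv)) (inv_mem h2)
    simp only [Prod.mk_mul_mk, Prod.inv_mk, mk_conj_q] at h5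
    have := h.exact (h.std.act_fst (mk_mem_Nxyz.1 hb).2 hv) (e := 0 + b.ε v) (by
      rw [← Chat.conj_qh, ← Chat.conj_qh, map_mul, map_mul, map_mul, map_mul, map_inv, map_inv, ← h1,
        ← h.t1 0 v hv]
      group) h5
    rw [← mk_conj_q] at this
    rw [mul_inv_rev, inv_inv, mul_assoc, mul_assoc, ← mul_assoc (q κ 0 v), ← mul_assoc c, ← mul_assoc c, this]
    group
  exact ⟨e, v, h3, by rw [← h4, mul_inv_cancel_left]⟩

theorem step4 {m : V24} (hm : om m (w0 κ) = 0) : ∃ μ, R2 θ t (qh κ 0 m) μ := by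
  obtain ⟨a, ha, h1⟩ := h.exists_a (qh_mem_Nh.2 hm : qh κ 0 m ∈ _)
  obtain ⟨c, h2⟩ := h.std.exists_gam ha
  obtain ⟨e, v, hv, rfl⟩ := h.step3 (qh_mem_Nh.2 hm) h1 h2
  obtain ⟨s, rfl⟩ : ∃ s : ZMod 2, v = s • w0 κ := by
    refine (perp1 (u := w0 κ) (m := v) fun m' hm' => ?_).elim (fun k => ⟨0, by simp [k]⟩) fun k => ⟨1, by simp [k]⟩
    obtain ⟨b, hb, h3⟩ := h.exists_b (qh_mem_Nh.2 hm' : qh κ 0 m' ∈ _)
    obtain ⟨c, h4⟩ := h.std.exists_gam (qh_mem_Nh.2 hm' : qh κ 0 m' ∈ _)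
    obtain ⟨e', v', hv', rfl⟩ := h.step3 hb h3 h4
    have h5 : ∀ v : V24, v.1 = 0 → κ.act b.g v = v + om m' v • w0 κ := fun v hv => by
      refine (h.inj (a := 0 + b.ε v) (b := om m' v) ((MulAut.conj t).injective ?_)).2
      have h6 := congrArg (· * θ (qh κ (v.2 ⬝ᵥ a0 κ) v) * (θ (qh κ 0 m'))⁻¹) h3
      simp only [← map_mul, ← map_inv, Chat.conj_qh, Chat.ε_qh, qh_g, κ.act_one] at h6
      simp only [MulAut.conj_apply]
      rw [h.t1 (om m' v) _ (by simp [hv, h.std.w0_fst]), add_assoc v, ww_add_self, add_zero, Prod.snd_add,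
        add_dotProduct, Prod.smul_snd, smul_dotProduct, h.std.w0_dot_a0, smul_eq_mul, mul_one, ← h6,
        map_inv, ← h3, ← Chat.conj_qh, map_mul, map_mul, map_inv,
        ← show _ = θ (qh κ (v.2 ⬝ᵥ a0 κ) v) by simpa only [zero_smul, add_zero] using h.t1 0 v hv]
      group
    have h6 : (m + κ.act b.g m).1 = 0 := fst_eq_zero fun w hw => by
      have := h5 _ (h.std.act_fst (inv_mem (mk_mem_Nxyz.1 hb).2) hw)
      rw [κ.act_act_inv] at this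
      rw [om_add_left, ← κ.act_act_inv b.g w, κ.om_act, κ.act_act_inv]
      conv_lhs => rw [this, om_add_right, ← this]
      rcases z2_cases (om m' (κ.act b.g⁻¹ w)) with k | k <;> simp [k, hm, z2_add_self]
    have h7 := gam_comm h2 h4
    rw [commutatorElement_def, mk_qh, mk_conj_q, q_inv, q_mul] at h7
    have h8 := h.exact h6 (e := 0 + (0 + qf m + b.ε m) + bet m (κ.act b.g m)) (by
      rw [← qh_mul, ← qh_mul, ← Chat.conj_qh, ← Chat.conj_qh, ← qh_inv, ← qh_inv]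
      simp only [map_mul, map_inv, ← h1, ← h3]
      group) h7
    rw [commutatorElement_def, mul_assoc, mul_assoc, ← mul_assoc (mk κ b * _), mk_qh, q_mul, q_inv, conj_q, q_mul,
      cact_mul, cact_q, cact_mk, map_add, h5 v hv] at h8
    have h9 := (q_inj h8).2
    rw [add_add_add_comm, add_eq_left, ← add_assoc, ww_add_self, zero_add] at h9
    rw [om_comm]
    exact (z2_cases _).resolve_right fun k => w0_ne_zero (by simpa [k] using h9)
  exact ⟨_, a, e, s, h1, h2, rfl⟩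

theorem r2_mul {n n' : Chat κ} {μ μ' : ZMod 2} (hn : n' ∈ Nh κ) (h1 : R2 θ t n μ) (h2 : R2 θ t n' μ') :
    R2 θ t (n * n') (μ + μ') := by
  obtain ⟨a, e, s, k1, k2, rfl⟩ := h1
  obtain ⟨a', e', s', l1, l2, rfl⟩ := h2
  refine ⟨a * a', e + e', s + s', by rw [map_mul, map_mul, ← k1, ← l1]; group, ?_, add_add_add_comm _ _ _ _⟩
  convert mul_mem k2 l2 using 1
  rw [Prod.mk_mul_mk, map_mul, map_mul, mul_assoc, mul_assoc, ← mul_assoc (q κ e _), ← (comm_w0 hn e s).eq,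
    mul_assoc, q_mul, bet_fst (by simp [h.std.w0_fst]), add_zero, add_smul]

theorem r2_uniq {n : Chat κ} {μ μ' : ZMod 2} (h1 : R2 θ t n μ) (h2 : R2 θ t n μ') : μ = μ' := by
  obtain ⟨a, e, s, k1, k2, rfl⟩ := h1
  obtain ⟨a', e', s', l1, l2, rfl⟩ := h2
  have h3 := mul_mem (inv_mem k2) l2
  have h4 : ∀ s : ZMod 2, (s • w0 κ).1 = 0 := fun s => by simp [h.std.w0_fst]
  rw [Prod.inv_mk, Prod.mk_mul_mk, mul_inv_rev, mul_assoc, inv_mul_cancel_left, ← map_inv, ← map_mul, q_inv, q_mul,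
    qf, bet_fst (h4 _), bet_fst (h4 _), ← add_smul] at h3
  have h5 : ∀ a b : ZMod 2, a • w0 κ = b • w0 κ → a = b := fun a b k => smul_left_injective _ w0_ne_zero k
  rcases h.ker (a⁻¹ * a') (by rw [map_mul, map_inv, ← k1, ← l1, inv_mul_cancel]) with k | k <;> rw [k] at h3
  · have := q_inj (((gam_one h.std h3).1 rfl).trans q_zero.symm)
    have h6 := h5 _ 0 (this.2.trans (zero_smul _ _).symm)
    linear_combination this.1 + h6 - z2_add_self e' - z2_add_self s'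
  · have := q_inj (gam_uniq h.std h3 h.std.gam_z)
    have h6 := h5 _ 1 (this.2.trans (one_smul _ _).symm)
    linear_combination this.1 + h6 - z2_add_self e' - z2_add_self s' + z2_add_self 1

theorem r2_13 (e : ZMod 2) {v : V24} (hv : v.1 = 0) : R2 θ t (qh κ e v) 0 :=
  ⟨_, 0, 0, h.t1 e v hv, by simpa [mk_qh] using gam13 h.std e hv, rfl⟩

theorem exists_good : ∃ t', Th2 N θ t' ∧ ∀ m, om m (w0 κ) = 0 → R2 θ t' (qh κ 0 m) 0 := by
  choose! μ hμ using fun m => h.step4 (m := m)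
  obtain ⟨u, hu⟩ := AddOn.exists_om (u := w0 κ) (f := μ) fun v w hv hw => by
    have := h.r2_mul (qh_mem_Nh.2 (om_zero_left _))
      (hμ (v + w) (by rw [om_add_left, hv, hw, add_zero])) (h.r2_13 (bet v w) (v := 0) rfl)
    refine (add_zero _).symm.trans (h.r2_uniq this ?_)
    simpa [qh_mul] using h.r2_mul (qh_mem_Nh.2 hw) (hμ v hv) (hμ w hw)
  have h1 : u.1 = 0 := fst_eq_zero fun v hv => by
    have := om_fst hv h.std.w0_fst
    rw [om_comm, ← hu v this]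
    exact h.r2_uniq (hμ v this) (h.r2_13 0 hv)
  have h2 : ∀ e v, t * θ (qh κ 0 u) * θ (qh κ e v) * (t * θ (qh κ 0 u))⁻¹ = t * θ (qh κ (e + om u v) v) * t⁻¹ :=
    fun e v => by
      have := Chat.conj_qh (qh κ 0 u) e v
      rw [Chat.ε_qh, qh_g, κ.act_one] at this
      rw [← this, map_mul, map_mul, map_inv]
      group
  refine ⟨t * θ (qh κ 0 u), ⟨h.std, mul_mem h.tN (h.qN _ _), h.qN, h.nrm, h.inj, h.ker, h.mh, fun e v hv => by
    rw [h2, om_fst h1 hv, add_zero, h.t1 e v hv]⟩, fun m hm => ?_⟩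
  obtain ⟨a, e, s, k1, k2, k3⟩ := h.r2_mul (qh_mem_Nh.2 (om_zero_left _)) (hμ m hm) (h.r2_13 (om u m) (v := 0) rfl)
  rw [qh_mul, bet_zero_right, add_zero, add_zero] at k1 k2
  refine ⟨a, om u m + e, s, (h2 _ _).trans k1, ?_, by
    rw [add_assoc, k3, hu m hm, om_comm, add_zero, z2_add_self]⟩
  simpa [mk_qh, q_mul, add_assoc] using k2

theorem exists_gam (hg : ∀ m, om m (w0 κ) = 0 → R2 θ t (qh κ 0 m) 0) {n : Chat κ} (hn : n ∈ Nh κ) :
    ∃ a, t * θ n * t⁻¹ = θ a ∧ (mk κ a, mk κ n) ∈ Gam κ := by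
  have h1 : ∀ n ∈ Nh κ, ∃ μ, R2 θ t n μ := fun n hn => by
    obtain ⟨a, ha, h1⟩ := h.exists_a hn
    obtain ⟨c, h2⟩ := h.std.exists_gam ha
    obtain ⟨e, v, hv, rfl⟩ := h.step3 hn h1 h2
    obtain ⟨s, rfl⟩ : ∃ s : ZMod 2, v = s • w0 κ := by
      refine (perp1 (u := w0 κ) (m := v) fun m hm => ?_).elim (fun k => ⟨0, by simp [k]⟩) fun k => ⟨1, by simp [k]⟩
      obtain ⟨a', e', s', k1, k2, k3⟩ := hg m hm
      have h3 := h.r2_mul (qh_mem_Nh.2 (om_zero_left _)) (hg (κ.act n.g m) (by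
        rw [← act_w0_iff.2 (mk_mem_Nxyz.1 hn).2, κ.om_act, hm])) (h.r2_13 (n.ε m) (v := 0) rfl)
      refine (h.r2_uniq ⟨a * a' * a⁻¹, om v m + e', s', ?_, ?_, by rw [add_assoc, k3, add_zero]⟩ h3).trans
        (add_zero _) <;> rw [qh_mul, bet_zero_right, add_zero, add_zero, ← Chat.conj_qh]
      · simp only [map_mul, map_inv, ← h1, ← k1]; group
      · convert mul_mem (mul_mem h2 k2) (inv_mem h2) using 1
        have h4 := (comm_w0 hn (om v m + e') s').eq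
        have h5 := conj_q (q κ e v) (0 + e' + bet m (s' • w0 κ)) (m + s' • w0 κ)
        rw [← q_mul, cact_q, cε_q, om_add_right, om_fst hv (w := s' • w0 κ) (by simp [h.std.w0_fst]), add_zero,
          add_right_comm, add_assoc 0, add_comm e', ← q_mul] at h5
        simp only [Prod.mk_mul_mk, Prod.inv_mk, map_mul, map_inv, mk_qh, Prod.mk.injEq, true_and]
        rw [mul_assoc _ _⁻¹, inv_mul_eq_iff_eq_mul.2 (eq_mul_inv_iff_mul_eq.2 h4.symm ▸ (mul_assoc _ _ _)),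
          ← mul_assoc, mul_assoc (mk κ n), ← h5]
        group
    exact ⟨_, a, e, s, h1, h2, rfl⟩
  let H : Subgroup (Chat κ) :=
    { carrier := {n | ∃ a, t * θ n * t⁻¹ = θ a ∧ (mk κ a, mk κ n) ∈ Gam κ}
      one_mem' := ⟨1, by simp, by rw [map_one]; exact one_mem _⟩
      mul_mem' := by
        rintro n n' ⟨a, k1, k2⟩ ⟨a', l1, l2⟩
        exact ⟨a * a', by rw [map_mul, map_mul, ← k1, ← l1]; group, by simpa using mul_mem k2 l2⟩
      inv_mem' := by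
        rintro n ⟨a, k1, k2⟩
        exact ⟨a⁻¹, by rw [map_inv, map_inv, ← k1]; group, by simpa using inv_mem k2⟩ }
  refine Nh_le h.std (H := H) (fun n hn n' hn' => ?_) (fun e v hv => ⟨_, h.t1 e v hv, gam13 h.std e hv⟩) hn
  obtain ⟨_, a, e, s, k1, k2, -⟩ := h1 n hn
  obtain ⟨_, a', e', s', l1, l2, -⟩ := h1 n' hn'
  refine ⟨⁅a, a'⁆, by
    simp only [commutatorElement_def, map_mul, map_inv, ← k1, ← l1]; group, ?_⟩
  convert gam_comm k2 l2 using 2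
  · exact map_commutatorElement _ _ _
  · have a := comm_w0 hn
    have b := comm_w0 hn'
    have c : Commute (q κ e (s • w0 κ)) (q κ e' (s' • w0 κ)) :=
      q_comm_iff.2 (om_fst (by simp [h.std.w0_fst]) (by simp [h.std.w0_fst]))
    rw [map_commutatorElement, commutatorElement_def, commutatorElement_def, mul_assoc (mk κ n) (q κ e _),
      ← ((b e s).symm.mul_right c).symm.eq, mul_inv_rev, mul_inv_rev, ← mul_assoc (mk κ n), mul_assoc _ (q κ e _),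
      mul_inv_cancel_left, mul_assoc, mul_assoc _ _⁻¹, ← mul_assoc (mk κ n)⁻¹, (a e' s').inv_inv.eq]
    group

theorem exists_pi : θ (Mon.mh κ) = 1 ∧ ∃ t ∈ N, ∀ a b, (mk κ a, mk κ b) ∈ Gam κ → θ a * t = t * θ b := by
  obtain ⟨t, h, hg⟩ := h.exists_good
  have h1 : θ (Mon.mh κ) = 1 := by
    obtain ⟨a, k1, k2⟩ := h.exists_gam hg (n := Mon.mh κ) (by simp [mem_comap])
    rw [mk_mh] at k2
    rcases mk_eq_one.1 ((gam_one h.std k2).2 rfl) with rfl | rfl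
    · simpa using k1
    · refine h.mh.resolve_right fun e => w0_ne_zero (h.inj (a := 0) (b := 1) (v := w0 κ) ?_).2
      simpa [← e, k1] using (h.t1 1 0 rfl).symm
  refine ⟨h1, t, h.tN, fun a b k => ?_⟩
  obtain ⟨a', k1, k2⟩ := h.exists_gam hg (n := b) (h.std.Gam_le k).2
  rw [mul_inv_eq_iff_eq_mul.1 k1]
  rcases mk_eq_mk.1 (gam_uniq' h.std k k2) with rfl | rfl <;> simp [h1]

end Th2

variable {C L K R : Subgroup G} {φ : N →* Equiv.Perm (Fin 3)} {ψ : N →* M24} {σ : Equiv.Perm (Fin 3)}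
  {χ : L →* Matrix.SpecialLinearGroup (Fin 3) (ZMod 2)}

theorem comm_conj (a : t * θ (qh κ 1 0) * t⁻¹ = θ (qh κ 0 (w0 κ))) {x y : G} (hx : t⁻¹ * x * t ∈ Qt θ)
    (hy : t⁻¹ * y * t ∈ Qt θ) : ⁅x, y⁆ = 1 ∨ ⁅x, y⁆ = θ (qh κ 0 (w0 κ)) :=
  (Qt_comm hx hy).imp (fun e => by
    calc _ = t * ⁅t⁻¹ * x * t, t⁻¹ * y * t⁆ * t⁻¹ := by group
      _ = _ := by rw [e]; group) fun e => by rw [← a, ← e]; group

theorem Su.exists_th2 (S : Su C N L K R φ ψ σ χ θ) : ∃ t, Th2 N θ t := by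
  obtain ⟨t, tL, tR, t1, t3, a1, a2⟩ := S.exists_t0
  have hκ := S.std
  have h0 := hκ.w0_fst
  let Q1 := (Qt θ).comap (MulAut.conj t⁻¹).toMonoidHom
  have mQ : ∀ x, x ∈ Q1 ↔ t⁻¹ * x * t ∈ Qt θ := fun x => by simp [Q1, mem_comap]
  have h1 : θ (qh κ 1 0) ∈ Q1 := (mQ _).2 (a2 ▸ qh_mem_Qt _ _)
  have h1' : θ (qh κ 0 (w0 κ)) ∈ Q1 := (mQ _).2 (by simpa [← a1, mul_assoc] using qh_mem_Qt 1 0)
  let A : AddSubgroup V24 :=
    { carrier := {v | θ (qh κ 0 v) ∈ Q1}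
      zero_mem' := by simp
      add_mem' := fun a b => qh_mem_of h1 (by simpa only [← map_mul, qh_mul] using Q1.mul_mem a b)
      neg_mem' := fun {a} ha => by rwa [neg_eq_of_add_eq_zero_right (ww_add_self a)] }
  have h2 : ∀ v : V24, v.1 = 0 → θ (qh κ 0 v) ∈ Q1 := fun v hv => v1_le hκ (A := A) h1' (fun i j k =>
    (A.add_mem_cancel_right h1').1 (qh_mem_of h1 ((mQ _).2 ((S.conj_t tL tR t1 t3).2.2 i j k).choose_spec))) hv
  have h8 : ∀ u e v, θ (qh κ 0 u) * θ (qh κ e v) * (θ (qh κ 0 u))⁻¹ = θ (qh κ (e + om u v) v) := fun u e v => by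
    rw [th_conj, Chat.ε_qh, qh_g, κ.act_one]
  obtain ⟨b, bN, hb, b1, b2⟩ : ∃ b ∈ N, t⁻¹ * b * t ∈ Qt θ ∧ b * θ (qh κ 0 (w0 κ)) * b⁻¹ = θ (qh κ 0 (w0 κ)) ∧
      b * θ (qh κ 1 0) * b⁻¹ = θ (qh κ 1 (w0 κ)) := by
    refine ⟨t * θ (qh κ 0 (lam κ none)) * t⁻¹, mul_mem (mul_mem (S.I.RN tR) (S.qK.2 (qh_mem_Qt _ _)))
      (inv_mem (S.I.RN tR)), by simpa [mul_assoc] using qh_mem_Qt 0 _, ?_, ?_⟩
    · rw [← a1, conj_mul, conj_inv, conj_mul, h8]; simp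
    · calc _ = t * (θ (qh κ 0 (lam κ none)) * (t⁻¹ * θ (qh κ 1 0) * t) * (θ (qh κ 0 (lam κ none)))⁻¹) * t⁻¹ := by group
        _ = t * (t⁻¹ * θ (qh κ 1 0) * t * θ (qh κ 1 0)) * t⁻¹ := by
          rw [a2, h8, om_lam_w0, ← map_mul, qh_mul_zh]
        _ = θ (qh κ 1 0) * (t * θ (qh κ 1 0) * t⁻¹) := by group
        _ = _ := by rw [a1, ← map_mul]; simp [qh_mul]
  have h3 : ∀ v : V24, v.1 = 0 → ∃ s : ZMod 2, b * θ (qh κ 0 v) * b⁻¹ = θ (qh κ 0 (v + s • w0 κ)) := fun v hv => by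
    rcases comm_conj a1 hb ((mQ _).1 (h2 v hv)) with k | k <;> rw [commutatorElement_def, mul_inv_eq_iff_eq_mul] at k
    · exact ⟨0, by simpa using k⟩
    · exact ⟨1, by simpa [← map_mul, qh_mul, bet_fst hv, add_comm] using k⟩
  choose! f hf using h3
  have h5 : ∀ a b : ZMod 2, a • w0 κ = b • w0 κ → a = b := fun a b k => smul_left_injective _ w0_ne_zero k
  obtain ⟨u, hu⟩ := exists_om_eq (AddMonoidHom.mk' (fun v : V24 => f (0, v.2)) fun v w => by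
    have := hf (0, v.2 + w.2) rfl
    rw [show qh κ 0 (0, v.2 + w.2) = qh κ 0 (0, v.2) * qh κ 0 (0, w.2) by simp [qh_mul, bet_fst], map_mul,
      ← conj_mul, hf _ rfl, hf _ rfl, ← map_mul, qh_mul] at this
    have := (S.lt.inj this).2
    rw [add_add_add_comm, ← add_smul, Prod.mk_add_mk (0 : W12), add_zero, add_right_inj] at this
    exact (h5 _ _ this).symm)
  have h6 : ∀ v : V24, v.1 = 0 → om u v = f v := fun v hv => by
    rw [om_comm, ← hu]; exact congrArg f (Prod.ext hv.symm rfl)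
  have h7 : f (w0 κ) = 0 := h5 _ _ (by simpa using (S.lt.inj ((hf _ h0).symm.trans b1)).2)
  have h9 : ∀ e (v : V24), v.1 = 0 → b * θ (qh κ e v) * b⁻¹ = θ (qh κ e (v + (f v + e) • w0 κ)) := fun e v hv => by
    rcases z2_cases e with rfl | rfl
    · rw [add_zero, hf v hv]
    · rw [← zero_add 1, ← qh_mul_zh, map_mul, ← conj_mul, hf v hv, b2, ← map_mul]
      simp [qh_mul, bet_fst h0, add_smul, add_assoc]
  refine ⟨θ (qh κ 0 (u + lam κ none)) * b * θ (qh κ 0 u), hκ, mul_mem (mul_mem (S.qK.2 (qh_mem_Qt _ _)) bN)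
    (S.qK.2 (qh_mem_Qt _ _)), fun _ _ => S.qK.2 (qh_mem_Qt _ _), fun n hn x hx => ?_, S.lt.inj, S.lt.ker, S.lt.mh,
    fun e v hv => ?_⟩
  · have := S.I.nK hn (S.mem_K.2 hx)
    obtain ⟨a, e⟩ := S.ex (S.I.KC this)
    exact ⟨a, S.mem_K.1 (e ▸ this), e.symm⟩
  · have := h8 (u + lam κ none) (e + om u v) (v + (f v + (e + om u v)) • w0 κ)
    rw [← h9 _ _ hv, ← h8, h6 v hv, add_comm e, ← add_assoc, z2_add_self, zero_add, om_add_left, om_comm (lam κ _),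
      ← hκ.snd_dot_a0 (by simp [hv, h0]), om_add_right, h6 v hv] at this
    convert this using 1
    · group
    · rcases z2_cases e with rfl | rfl <;>
        simp [h6 _ h0, h7, hκ.w0_dot_a0, ← add_assoc, z2_add_self, add_right_comm _ _ (f v), add_right_comm _ _ (1 : ZMod 2)]

theorem Su.exists_yp {θ : Chat k0 →* G} (S : Su C N L K R φ ψ σ χ θ) :
    ∃ e s : ZMod 2, YP C N (θ (qh k0 1 0)) (θ (qh k0 0 (w0 k0))) (θ (qh k0 e (aT + s • w0 k0))) := by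
  obtain ⟨t, tL, tR, t1, t3, a1, a2⟩ := S.exists_t0
  have e1 : θ (qh k0 0 (w0 k0)) * θ (qh k0 1 0) = θ (qh k0 1 (w0 k0)) := by rw [← map_mul, qh_mul_zh, zero_add]
  obtain ⟨a, h1, ⟨n1, n2, n3, n4⟩, h2⟩ := S.J.omega S.I tL tR t1 t3 S.lt.z_ne (th_zz θ) S.hz a1 (a2.trans e1.symm)
    (fun e => w0_ne_zero (S.lt.inj e).2) (fun c hc k => by
      obtain ⟨x, rfl⟩ := S.ex hc
      rw [e1, th_conj] at k
      exact S.mem_N (act_w0_iff.1 (k.elim (fun k => (S.lt.inj k).2) fun k => (S.lt.inj k).2))) fun n => S.cz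
  have h3 : ∀ u, u = a ∨ u = a * θ (qh k0 0 (w0 k0)) ∨ u = t⁻¹ * a * t →
      ∃ e v, u = θ (qh k0 e v) ∧ (v = 0 ∨ ∃ g, v = k0.act g (w0 k0)) := fun u hu => by
    rcases h2 u hu with rfl | rfl | ⟨c, hc, k⟩
    exacts [⟨0, 0, by simp, Or.inl rfl⟩, ⟨1, 0, rfl, Or.inl rfl⟩, by
      obtain ⟨x, rfl⟩ := S.ex hc
      rw [th_conj, ← map_mul, qh_mul_zh] at k
      exact k.elim (fun k => ⟨_, _, k, Or.inr ⟨_, rfl⟩⟩) fun k => ⟨_, _, k, Or.inr ⟨_, rfl⟩⟩]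
  obtain ⟨e, v, rfl, k1⟩ := h3 a (Or.inl rfl)
  obtain ⟨_, _, k2, k3⟩ := h3 _ (Or.inr (Or.inl rfl))
  obtain ⟨_, _, k4, -⟩ := h3 _ (Or.inr (Or.inr rfl))
  rw [← map_mul, qh_mul] at k2
  rw [← (S.lt.inj k2).2] at k3
  obtain ⟨c, k1⟩ := k1.resolve_left (by rintro rfl; exact (th_z θ e).elim n1 n2)
  obtain ⟨c', k3⟩ := k3.resolve_left fun k => by
    obtain rfl : v = w0 k0 := by simpa using eq_add_of ((add_comm _ _).trans k)
    rcases z2_cases e with rfl | rfl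
    exacts [n3 rfl, n4 e1.symm]
  obtain ⟨τ, s, k5⟩ := exists_aT (fst_of_sgn S.std fun d hd => by
    obtain ⟨x, x1, x2⟩ := (S.conj_t tL tR t1 t3).2.1 d hd
    obtain ⟨e', k⟩ := th_comm θ x e v
    rw [← act_co1 x2]
    exact (comm_conj a1 x1 (k4 ▸ qh_mem_Qt _ _)).imp (fun l => (S.lt.inj (b := 0) (by simpa using k.symm.trans l)).2)
      fun l => (S.lt.inj (k.symm.trans l)).2) k1 k3
  obtain ⟨x, hx, k6⟩ := S.std.exists_E τ
  have k7 := mk_mem_Nxyz.1 (S.std.isE_mem_Nxyz hx)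
  have := h1.conj (S.mem_N k7.2) (S.mem x) (by rw [S.hz _ (S.mem x), mul_inv_cancel_right])
    (by rw [th_conj, k7.1, act_w0_iff.2 k7.2, add_zero])
  rw [th_conj, k6, k5] at this
  exact ⟨_, _, this⟩

end CfsgLib.MonRec
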