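import Mathlib
import Cfsg.Agent.Lib.MonRec.AmD
import Cfsg.Agent.Lib.MonRec.TrG
import Cfsg.Agent.Lib.MonRec.Mod
import Cfsg.Agent.Lib.MonK.Dce

/-! # A group generated by three subgroups of Monster shape is the Monster -/

set_option autoImplicit false

namespace CfsgLib.MonRec

open Cfsg CfsgLib.Leech CfsgLib.MType CfsgLib.Mon CfsgLib.Mon.Mult CfsgLib.LargeExtra CfsgLib.ExtraTwo Subgroup
open scoped Pointwise commutatorElement Matrix

variable {G G' : Type*} [Group G] [Group G'] {π : C k0 →* G} {t : G}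

theorem exists_mam2 {N : Subgroup G} (hi : Function.Injective π)
    (hc : ∀ g ∈ N, g * π (z k0) = π (z k0) * g → g ∈ π.range) (qN : ∀ e v, π (q k0 e v) ∈ N) (tN : t ∈ N) {e0 s0 : ZMod 2}
    (hy : YP π.range N (π (z k0)) (π (q k0 0 (w0 k0))) (π (q k0 e0 (aT + s0 • w0 k0))))
    (hg : ∀ a b, (a, b) ∈ Gam k0 → π a * t = t * π b) {π' : C k0 →* G'} {t' : G'} (h : MAm π' t')
    (hi' : Function.Injective π') : ∃ t ∈ N, MAm π t := by
  obtain ⟨V, Y, v1, v2, v3, v4, v5⟩ := hy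
  have hκ := std_k0
  have h0 := hκ.w0_fst
  have h1 : ∀ {t}, (∀ a b, (a, b) ∈ Gam k0 → π a * t = t * π b) → (t, t') ∈ Nm π π' (Nxyz k0) := fun hg k hk =>
    let ⟨b, hb⟩ := hκ.exists_gam hk; ⟨b, (hκ.Gam_le hb).2, hg _ _ hb, h.gam _ _ hb⟩
  have h2 : ∀ γ ∈ Nm π π' (Nxyz k0), γ.2 = 1 → γ.1 ∈ N → ∃ e, γ.1 = π (q k0 e 0) ∨ γ.1 = π (q k0 e (w0 k0)) :=
      fun γ a b n => by
    obtain ⟨c, e⟩ := hc γ.1 n (Nm.comm hi' a b (Nxyz_eq (κ := k0) ▸ z_mem_Cq _)).symm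
    obtain ⟨s, k⟩ := cent2 (u := 0) (i := none) (by simp [qf]) (by simp) (by simp) (fun _ _ => rfl) (y := c)
      fun v _ hv => mem_Cq.2 (comm_q_iff.1 (hi (by
        rw [map_mul, map_mul, e]; exact (Nm.comm hi' a b (q_mem_Nxyz.2 hv : q k0 0 v ∈ _)).symm)))
    exact ⟨s, by rcases k with k | k | k | k <;> simp [← e, k]⟩
  have h3 : ∀ {t}, t ∈ N → (∀ a b, (a, b) ∈ Gam k0 → π a * t = t * π b) → t ^ 3 = 1 := fun {t} tN hg => by
    obtain ⟨e, k⟩ := h2 _ (pow_mem (h1 hg) 3) h.cube (pow_mem tN 3)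
    have : ∀ v : V24, v.1 = 0 → t ^ 3 = π (q k0 e v) → v.2 ⬝ᵥ a0 k0 = e ∧ v + e • w0 k0 = v := fun v hv k =>
      q_inj (hi (mul_right_cancel ((hg _ _ (gam13 hκ e hv)).trans (by rw [← k]; group))))
    rcases k with k | k
    · rw [show t ^ 3 = _ from k, ← (this 0 rfl k).1]; simp
    · have := this _ h0 k
      rw [hκ.w0_dot_a0, ← this.1] at this
      simp [w0_ne_zero] at this
  obtain ⟨t, tN, hg, h4⟩ : ∃ t ∈ N, (∀ a b, (a, b) ∈ Gam k0 → π a * t = t * π b) ∧ t * π sT * t * π sT = 1 := by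
    have a : (π sT, π' sT) ∈ Nm π π' (Nxyz k0) := Nm.pi fun k hk => Nxyz_eq (κ := k0) ▸ conj_mem_Cq (by
      rw [sT_eq, cact_q]; exact Nxyz_eq (κ := k0) ▸ hk)
    obtain ⟨e, k⟩ := h2 _ (mul_mem (mul_mem (mul_mem (h1 hg) a) (h1 hg)) a) (by
      simp [h.inv, ← map_mul, sT_mul_self]) (mul_mem (mul_mem (mul_mem tN (qN _ _)) tN) (qN _ _))
    have : ∀ v : V24, v.1 = 0 → t * π sT * t * π sT = π (q k0 e v) → v.2 ⬝ᵥ a0 k0 = e := fun v hv k => by
      refine (q_inj (w := v) (hi (mul_right_cancel ((hg _ _ (gam13 hκ (e + v.2 ⬝ᵥ a0 k0) hv)).trans ?_)))).1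
      have := conj_q sT e v
      rw [sT_inv, sT, xI, mk_qh, cact_q, cε_q, om_comm, ← hκ.snd_dot_a0 hv] at this
      rw [← this, map_mul, map_mul, ← mk_qh, ← xI, ← sT, ← k, mul_assoc (π sT), mul_assoc _ (π sT), ← map_mul,
        sT_mul_self, map_one]
      group
    simp only [Prod.fst_mul] at k
    rcases k with k | k
    · exact ⟨t, tN, hg, by rw [k, ← this 0 rfl k]; simp⟩
    · refine ⟨π (z k0) * t, mul_mem (qN _ _) tN, fun a b e => by
        rw [← mul_assoc, ← map_mul, z_comm, map_mul, mul_assoc, hg a b e, mul_assoc], ?_⟩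
      rw [← this _ h0 k, hκ.w0_dot_a0] at k
      calc _ = π (z k0) * (t * π (z k0)) * π sT * t * π sT := by
            simp only [mul_assoc, mul_right_inj]; rw [← mul_assoc, ← map_mul, z_comm, map_mul, mul_assoc]
        _ = π (z k0) * π (q k0 0 (w0 k0)) * (t * π sT * t * π sT) := by
            rw [← hg _ _ hκ.gam_z'']; group
        _ = 1 := by
            rw [k, ← map_mul, ← map_mul, z_mul_q, zero_add, q_mul_self, qf_w0, q_zero, map_one]
  have h5 : t * π sT * t = π sT := by rw [eq_inv_of_mul_eq_one_left h4, ← map_inv, sT_inv]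
  refine ⟨t, tN, hg, h3 tN hg, h5, ?_⟩
  obtain ⟨y, hy⟩ := hκ.exists_Y 0 isCW_dT
  obtain ⟨m1, m2, m3, m4⟩ := mem_dT
  have a1 : aT.1 = 0 := (isE_qh.1 isE_aT).2.1
  obtain ⟨k, hk⟩ := hκ.exists_gam' (n := (cT * (mk k0 (xq k0 0 dT) * mk k0 y) * cT * mk k0 y * sT)⁻¹) (inv_mem (by
    have y1 : k0.act y.g (w0 k0) = w0 k0 := act_w0_iff.2 hy.mono
    have y2 : k0.act y.g aT = aT + w0 k0 := by
      rw [aT, map_add, hy.g_eq, act_sgn_pair, act_sgn_pair]; simp [m1, m2, m3, m4, ww_add_self, add_assoc]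
    have o1 : om (xv k0 dT) aT = 1 := by simp [aT, om_add_right, om_xv_lam isCW_dT, m1, m2, m3, m4]; decide
    rw [sT, cT, ← map_mul, ← map_mul, ← map_mul, ← map_mul, ← map_mul, mem_Nxyz]
    simp [-map_mul, Chat.ε_mul, k0.act_mul, xq, xI, Chat.ε_qh, cH_g, gT_w0, gT_aT, y1, y2, o1, om_add_right,
      om_xv_w0, om_lam_w0, ε_sum, z2_add_self, Chat.ε_of_fst hy.eb_zero h0, Chat.ε_of_fst hy.eb_zero a1,
      add_right_comm aT, ww_add_self]))
  have g1 := gam_Y hy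
  have g2 := gam_XY hy
  have g3 := gam_X hy
  rw [map_inv, map_mul] at g2 g3
  obtain ⟨i1, i2⟩ := tri_id (hg _ _ g1) (hg _ _ g2) (hg _ _ g3) (hg _ _ hk) (h3 tN hg) h5 rfl
  obtain ⟨j1, j2⟩ := tri_id (h.gam _ _ g1) (h.gam _ _ g2) (h.gam _ _ g3) (h.gam _ _ hk) h.cube h.inv rfl
  rw [h.tri, inv_one, one_mul] at j2
  generalize hp : cT⁻¹ * mk k0 (xq k0 0 dT) * sT * k = p at i2 j2
  have j3 : p ^ 3 = 1 := hi' (by
    rw [map_pow, show π' p = t' * π' cT * (π' (mk k0 (xq k0 0 dT)) * t') * (t' * π' cT)⁻¹ by rw [j2]; group,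
      conj_pow, j1, map_one]; simp)
  have hr : ((t * π cT) ^ 3, (t' * π' cT) ^ 3) ∈ Nm π π' K3 := pow_mem (mul_mem (show (t, t') ∈ Nm π π' K3 from
    fun k hk => let ⟨b, a, e⟩ := K3_k1 hk; ⟨b, a, hg _ _ e, h.gam _ _ e⟩) (Nm.pi fun k => K3_k2)) 3
  have c1 : ∀ (e : ZMod 2) (v : V24), v.1 = 0 → t * π (q k0 e v) * t⁻¹ = π (q k0 (v.2 ⬝ᵥ a0 k0) (v + e • w0 k0)) :=
    fun e v hv => by rw [← hg _ _ (gam13 hκ e hv), mul_inv_cancel_right]
  have m0 : ∀ {e v} e', π (q k0 e v) ∈ V → π (q k0 e' v) ∈ V := fun _ => qh_mem_of (θ := π.comp (mk k0)) v1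
  have m5 : ∀ e s : ZMod 2, π (q k0 e (aT + s • w0 k0)) ∈ V := fun e s => by
    have := mul_mem v3 v2
    rw [← map_mul, q_mul, add_assoc aT] at this
    rcases z2_cases s with rfl | rfl <;> rcases z2_cases s0 with rfl | rfl
    exacts [m0 _ v3, m0 _ (by simpa [ww_add_self] using this), m0 _ (by simpa using this), m0 _ v3]
  have c3 : ∀ e v, π cT * π (q k0 e v) * (π cT)⁻¹ = π (q k0 (e + cε cT v) (k0.act gT v)) := fun e v => by
    rw [← map_inv, ← map_mul, ← map_mul, conj_q, cT, cact_mk, cH_g]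
  obtain ⟨ρ, hρ⟩ := v5 ((t * π cT) ^ 3) (pow_mem (mul_mem (v4 t (Or.inl tN) (by simpa [z, c1] using v2)
    (by rw [c1 _ _ h0]; simpa using m0 _ v2) (by rw [c1 _ _ (by simp [a1, h0]), add_assoc, ← add_smul]; exact m5 _ _))
    (v4 _ (Or.inr ⟨cT, rfl⟩) (by rwa [← map_mul, z_comm, map_mul, mul_inv_cancel_right])
      (by simpa [c3, gT_w0] using m5 _ 0) (by
        rw [c3, map_add, gT_aT]
        rcases z2_cases s0 with rfl | rfl
        · simpa using m5 _ 1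
        · simpa [gT_w0, add_right_comm aT, ww_add_self] using m0 _ v2))) 3)
    (Nm.comm hi' hr h.tri (k := z k0) ⟨z_mem_Cq _, z_mem_Cq _⟩).symm
  obtain ⟨e, v, rfl, hv⟩ : ∃ e v, ρ = q k0 e v ∧ ∃ s : ZMod 2, v = s • w0 k0 ∨ v = aT + s • w0 k0 := by
    obtain ⟨e, k⟩ := cent2 (κ := k0) (u := aT) (i := some 3) (bet_fst a1) (om_fst h0 a1)
      (by simp [aT, om_add_right, om_lam_lam]) (fun c k => by
        obtain ⟨x, rfl⟩ := mk_surjective c
        have h1 : sqNorm (lamL (some 3) + (dlL none (some 0) - e8 none + (dlL (some 1) (some 2) - e8 (some 1)))).1 = 64 := by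
          decide +kernel
        rw [cact_mk, show lam k0 (some 3) + aT = k0.φ (lamL (some 3) + (dlL none (some 0) - e8 none +
          (dlL (some 1) (some 2) - e8 (some 1)))) by
            simp only [map_add, map_sub, φ_dlL, φ_e8, aT, lam, sub_add_sub_comm, ww_add_self, sub_zero],
          lam, k0.act_φ, k0.φ_eq_iff] at k
        have := k.sqNorm_eq (by rw [sqNorm_smul, sqNorm_lamL]; norm_num) h1.le
        rw [sqNorm_smul, sqNorm_lamL, h1] at this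
        exact absurd this (by norm_num)) (y := ρ)
      fun v a b => mem_Cq.2 (comm_q_iff.1 (hi (by
        rw [map_mul, map_mul, hρ]
        exact (Nm.comm hi' hr h.tri (k := q k0 0 v) ⟨q_mem_Cq.2 b, q_mem_Cq.2 a⟩).symm)))
    rcases k with k | k | k | k
    exacts [⟨e, _, k, 0, by simp⟩, ⟨e, _, k, 0, by simp⟩, ⟨e, _, k, 1, by simp⟩, ⟨e, _, k, 1, by simp [add_comm]⟩]
  obtain ⟨s, rfl | rfl⟩ := hv
  · have := c1 (e + cε cT (s • w0 k0)) (cact cT (s • w0 k0))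
    rw [← conj_q, map_mul, map_mul, map_inv, hρ, show t * (π cT * (t * π cT) ^ 3 * (π cT)⁻¹) * t⁻¹ = (t * π cT) ^ 3 by
      simp only [pow_succ]; group, ← hρ] at this
    rcases z2_cases s with rfl | rfl
    · have := q_inj (hi (this (by simp)))
      simp at this
      rw [← hρ, this.1]; simp
    · rw [one_smul, cT, cact_mk, cH_g, gT_w0] at this
      exact absurd (eq_add_of ((add_comm _ _).trans (q_inj (hi (this a1))).2.symm)) (by
        rw [← one_smul (ZMod 2) (w0 k0), smul_smul, ← add_smul]; exact aT_ne _)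
  · exfalso
    generalize hu : π (mk k0 (xq k0 0 dT)) * t = u at i1 i2
    have c2 : ∀ e s : ZMod 2, ∃ e' s' : ZMod 2,
        u * π (q k0 e (aT + s • w0 k0)) * u⁻¹ = π (q k0 e' (aT + s' • w0 k0)) := fun e s => ⟨_, s + e, by
      rw [← hu, mul_inv_rev, mul_assoc, mul_assoc, ← mul_assoc _ t⁻¹, ← mul_assoc t, ← mul_assoc t,
        c1 _ _ (by simp [a1, h0]), ← map_inv, ← map_mul, ← map_mul, ← mul_assoc, conj_q, xq, mk_qh, cact_q, add_assoc aT,
        ← add_smul]⟩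
    rw [← hρ, ← map_inv, q_inv] at i2
    obtain ⟨e1, s1, d1⟩ := c2 (e + qf (aT + s • w0 k0)) s
    obtain ⟨e2, s2, d2⟩ := c2 e1 s1
    have : π (q k0 (e + qf (aT + s • w0 k0)) (aT + s • w0 k0)) * π (q k0 e1 (aT + s1 • w0 k0)) *
        π (q k0 e2 (aT + s2 • w0 k0)) = π 1 := by
      rw [← d2, ← d1]
      calc _ = (π (q k0 (e + qf (aT + s • w0 k0)) (aT + s • w0 k0)) * u) ^ 3 * (u ^ 3)⁻¹ := by
            simp only [pow_succ]; group
        _ = (t * π cT)⁻¹ * π p ^ 3 * (t * π cT) := by rw [i1, i2]; simp [pow_succ, mul_assoc]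
        _ = _ := by rw [← map_pow, j3]; simp
    rw [← map_mul, ← map_mul, q_mul, q_mul, ← q_zero] at this
    have := (q_inj (hi this)).2
    rw [add_add_add_comm aT, ww_add_self, zero_add, add_left_comm, ← add_smul, ← add_smul] at this
    exact aT_ne _ (by simpa using eq_add_of ((add_comm _ _).trans this))

variable {C N L K R : Subgroup G} {φ : N →* Equiv.Perm (Fin 3)} {ψ : N →* M24} {σ : Equiv.Perm (Fin 3)}
  {χ : L →* Matrix.SpecialLinearGroup (Fin 3) (ZMod 2)}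

theorem Su.equiv {θ : Chat k0 →* G} (S : Su C N L K R φ ψ σ χ θ) (hgen : C ⊔ N ⊔ L = ⊤) : Nonempty (MU ≃* G) := by
  have h := MonK.ms_MU
  obtain ⟨t, ht⟩ := S.exists_th2
  obtain ⟨h1, t, tN, h2⟩ := ht.exists_pi
  obtain ⟨e, s, hy⟩ := S.exists_yp
  have h3 : (lift θ h1).range = C := S.rg ▸ ext fun g =>
    ⟨fun ⟨c, hc⟩ => (mk_surjective c).elim fun x hx => ⟨x, by rw [← hc, ← hx]; rfl⟩, fun ⟨x, hx⟩ => ⟨mk k0 x, hx⟩⟩
  obtain ⟨τ, τN, k⟩ := exists_mam2 (π := lift θ h1) ((injective_iff_map_eq_one _).2 fun c hc => by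
    obtain ⟨x, rfl⟩ := mk_surjective c
    exact (S.lt.ker x hc).resolve_right fun e => S.lt.z_ne (e ▸ hc :)) (fun g a b => h3 ▸ S.cz a b)
    (fun _ _ => S.qK.2 (qh_mem_Qt _ _)) tN (h3 ▸ hy) (fun a b k => by
      obtain ⟨a, rfl⟩ := mk_surjective a
      obtain ⟨b, rfl⟩ := mk_surjective b
      exact h2 a b k) h.am h.inj
  obtain ⟨f, f1, f2⟩ := k.exists_lift
  have h4 : C ≤ f.range := h3 ▸ by rintro _ ⟨c, rfl⟩; exact ⟨πM c, DFunLike.congr_fun f1 c⟩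
  have h5 : N ≤ f.range := by
    obtain ⟨s, s1, s2, s3⟩ := S.I.ex
    exact S.I.gen (S.I.KC.trans h4) (S.I.RN s1) s2 s3 (h4 s2) τN (fun e => w0_ne_zero (S.lt.inj (b := 1) (
      k.conj_z.symm.trans (mul_inv_eq_iff_eq_mul.2 (S.hz τ e)))).2) ⟨_, f2⟩
  obtain ⟨t, tL, tR, t1, t3⟩ := S.J.exists_t S.I
  have h6 : L ≤ f.range := le_of_relIndex (S.J.iC ▸ (by norm_num : Nat.Prime 7)) (inf_le_right.trans h4) tL
    (h5 (S.I.RN tR)) (S.I.tC tR t1 t3)
  have := h.simple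
  exact ⟨MulEquiv.ofBijective f ⟨(MonoidHom.ker_eq_bot_iff _).1
    ((IsSimpleGroup.eq_bot_or_eq_top_of_normal _ inferInstance).resolve_right fun e =>
      S.lt.z_ne ((DFunLike.congr_fun f1 (z k0)).symm.trans (show πM (z k0) ∈ f.ker from e ▸ mem_top _))),
    MonoidHom.range_eq_top.1 (top_le_iff.1 (hgen.ge.trans (sup_le (sup_le h4 h5) h6)))⟩⟩

theorem exists_lt [Finite C] (hQ : IsExtraspecial 2 ((pCore 2 C).map C.subtype))
    (hQc : Nat.card ((pCore 2 C).map C.subtype) = 2 ^ 25)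
    (hcc : C ⊓ centralizer (((pCore 2 C).map C.subtype) : Set G) ≤ (pCore 2 C).map C.subtype)
    (hCo : Spor.IsoCo1 (C ⧸ pCore 2 C)) : ∃ θ : Chat k0 →* G, Lt θ ∧ θ.range = C := by
  obtain ⟨z, es⟩ := exists_ES hQ
  obtain ⟨i⟩ := hCo
  have e1 := es.subgroupOf (map_subtype_le _)
  rw [subgroupOf, comap_map_eq_self_of_injective C.subtype_injective] at e1
  generalize (⟨z, _⟩ : C) = z at e1
  have hz : centralizer {z} = ⊤ := eq_top_iff.2 fun g _ => mem_cent.2 (comm_of_conj_eq (e1.eq_of_comm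
    (by simpa using e1.ne_one) ((inferInstance : (pCore 2 C).Normal).conj_mem _ e1.mem g) fun x hx => by
      calc _ = g * (g⁻¹ * x * g * z) * g⁻¹ := by group
        _ = _ := by rw [e1.comm_z _ ((inferInstance : (pCore 2 C).Normal).conj_mem' _ hx g)]; group))
  obtain ⟨L, m⟩ := exists_mt_of_pre (Q := pCore 2 C) (z := z) ⟨e1, fun g hg => e1.center g
      ((mem_map_iff_mem C.subtype_injective).1 (hcc ⟨g.2, by
        rintro _ ⟨x, hx, rfl⟩; exact congrArg Subtype.val (hg x hx)⟩)) hg,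
    fun g _ x hx => (inferInstance : (pCore 2 C).Normal).conj_mem x hx g⟩
    ((card_map_of_injective C.subtype_injective).symm.trans hQc)
    ((i.toMonoidHom.comp (QuotientGroup.mk' _)).comp (Subgroup.subtype _))
    ((i.surjective.comp (QuotientGroup.mk'_surjective _)).comp fun g => ⟨⟨g, hz.ge (mem_top g)⟩, rfl⟩)
    fun g => by simp
  obtain ⟨θ, T⟩ := exists_theta k0 m
  refine ⟨C.subtype.comp θ, ⟨fun k => T.qh_inj m (Subtype.ext k), fun x k => ?_,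
    (T.map_z ▸ T.map_mh m).imp (congrArg Subtype.val) (congrArg Subtype.val)⟩, by
      rw [MonoidHom.range_comp, T.range, hz, ← MonoidHom.range_eq_map, range_subtype]⟩
  rcases T.ker m (Subtype.ext k) with rfl | rfl | rfl <;> simp [mk_qh, q_one_zero]

theorem exists_su [Finite N] {θ : Chat k0 →* G} (I : NI C N K R φ ψ σ) (J : LI C N L χ) (h : Lt θ) (h1 : θ.range = C) :
    ∃ θ : Chat k0 →* G, Su C N L K R φ ψ σ χ θ := by
  obtain ⟨k, k1, k2⟩ := I.exists_23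
  obtain ⟨x, rfl⟩ := h1.ge (I.KC k1)
  have h2 := mk_eq_one_co1.1 (h.mem_Q.1 (show θ (x ^ 23) ∈ _ by
    rw [map_pow, ← k2, pow_orderOf_eq_one]; exact one_mem _))
  have h3 : θ (x ^ 2) ^ 23 = 1 := by rw [map_pow, ← pow_mul, mul_comm, pow_mul, ← k2, pow_orderOf_eq_one, one_pow]
  obtain ⟨c, m, e⟩ := exists_conj_g23 (g := (x ^ 2).g) (orderOf_eq_prime (by
    rw [← Chat.toCo0_apply, ← map_pow, ← pow_mul, mul_comm, pow_mul, map_pow, Chat.toCo0_apply, sq]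
    rcases h2 with e | e <;> rw [e]
    exacts [one_mul _, negAut_mul_self]) fun e => by
    obtain ⟨j, hj⟩ := two_of_g (X := zpowers (x ^ 2)) (fun y ⟨i, hi⟩ => ⟨0, by
      rw [← hi, ← Chat.toCo0_apply, map_zpow, Chat.toCo0_apply, e]; simp⟩) ⟨_, mem_zpowers _⟩
    have := orderOf_dvd_of_pow_eq_one (show θ x ^ (2 * 2 ^ j) = 1 by
      rw [pow_mul, ← map_pow, ← map_pow, show (x ^ 2) ^ 2 ^ j = 1 from congrArg Subtype.val hj, map_one])
    rw [k2, ← pow_succ'] at this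
    exact absurd (fact23.out.dvd_of_dvd_pow this) (by norm_num))
  obtain ⟨c, rfl⟩ := Chat.exists_g (κ := k0) c
  have h4 : ∀ y, (θ.comp (MulAut.conj c⁻¹).toMonoidHom) y = θ (c⁻¹ * y * c⁻¹⁻¹) := fun _ => rfl
  refine ⟨θ.comp (MulAut.conj c⁻¹).toMonoidHom, std_k0, I, J, ⟨fun k => ?_, fun y k => ?_, ?_⟩, ?_,
    c * (x ^ 2) ^ m * c⁻¹, ?_, ?_, ?_⟩
  · rw [h4, h4, Chat.conj_qh, Chat.conj_qh] at k
    obtain rfl := k0.act_injective _ (h.inj k).2
    exact ⟨add_right_cancel (h.inj k).1, rfl⟩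
  · refine (h.ker _ (h4 y ▸ k :)).imp (fun e => by simpa [mul_assoc, inv_mul_eq_one] using e) fun e => ?_
    rw [map_mul, map_mul, map_inv _ c⁻¹, mul_inv_eq_iff_eq_mul, ← z_comm] at e
    exact mul_left_cancel e
  · simpa only [h4, mh_comm, qh_comm, mul_inv_cancel_right] using h.mh
  · rw [MonoidHom.range_comp, MonoidHom.range_eq_top.2 (MulAut.conj c⁻¹).surjective, ← MonoidHom.range_eq_map, h1]
  · simpa [h4, mul_assoc] using zpow_mem (pow_mem k1 2) m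
  · rw [← e, ← Chat.toCo0_apply (x ^ 2), ← map_zpow]; rfl
  · rw [h4, show c⁻¹ * (c * (x ^ 2) ^ m * c⁻¹) * c⁻¹⁻¹ = (x ^ 2) ^ m by group, map_zpow, ← zpow_natCast, ← zpow_mul,
      mul_comm, zpow_mul, zpow_natCast, h3, one_zpow]

end CfsgLib.MonRec
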