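import Mathlib
import Cfsg.Agent.Lib.Co1Rec.Inv
import Cfsg.Agent.Lib.MType.Baby

/-!
Involutions of `Co1` on the lattice modulo two: commutators, centralizers of the fixed classes,
fixed point free elements of order five in their centralizers.
-/

set_option autoImplicit false
set_option maxRecDepth 100000

namespace CfsgLib.MonRec

open Cfsg Finset CfsgLib.Leech CfsgLib.Golay CfsgLib.MType CfsgLib.Co1Rec
open CfsgLib.Comput (force force_eq)

theorem wc_transport {P : Co0 → Prop} (hc : ∀ γ t, P t → P (γ * t * γ⁻¹))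
    (hn : ∀ t, P t → P (t * negAut)) {x t : Co0} (h : IsConj (x : Spor.Co1) t) (hx : P x) : P t := by
  obtain ⟨k, e⟩ := isConj_iff.1 h
  obtain ⟨k, rfl⟩ := QuotientGroup.mk_surjective k
  rcases mk_eq_mk_co1.1 (show ((k * x * k⁻¹ : Co0) : Spor.Co1) = t from e) with rfl | rfl
  exacts [hc _ _ hx, hn _ (hc _ _ hx)]

theorem cong_negAut (t : Co0) (v : leechLattice) : Cong ((t * negAut) • v) (t • v) := by
  rw [mul_smul, negAut_smul, smul_neg]; exact cong_neg _

theorem cong_smul_iff (g : Co0) {v w : leechLattice} : Cong (g • v) (g • w) ↔ Cong v w :=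
  ⟨fun h => by simpa using h.smul g⁻¹, fun h => h.smul g⟩

/-- a commuting element of order five without fixed classes -/
def P5 (t : Co0) : Prop := ∃ g : Co0, g * t = t * g ∧ g ^ 5 = 1 ∧ ∀ v, Cong (g • v) v → Cong v 0

/-- only `t` centralizes the classes fixed by `t` -/
def PA (t : Co0) : Prop :=
  ∀ r : Co0, (∀ v, Cong (t • v) v → Cong (r • v) v) → (r : Spor.Co1) = 1 ∨ (r : Spor.Co1) = t

/-- a commutator of type two -/
def P32 (t : Co0) : Prop := ∃ v w, sqNorm w.1 = 32 ∧ Cong (t • v + v) w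

/-- a non-singular commutator -/
def P48 (t : Co0) : Prop := ∃ v : leechLattice, sqNorm (t • v + v).1 % 32 ≠ 0

theorem P5.transport {x t : Co0} (hx : P5 x) (h : IsConj (x : Spor.Co1) t) : P5 t := by
  refine wc_transport ?_ ?_ h hx
  · rintro γ t ⟨g, h1, h2, h3⟩
    refine ⟨γ * g * γ⁻¹, by rw [conj_mul, conj_mul, h1], by rw [conj_pow, h2, mul_one, mul_inv_cancel],
      fun v hv => ?_⟩
    have := h3 (γ⁻¹ • v) ((cong_smul_iff γ).1 (by simpa [mul_smul] using hv))
    simpa using this.smul γ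
  · rintro t ⟨g, h1, h2⟩
    exact ⟨g, by rw [← mul_assoc, h1, mul_assoc, neg_comm g, mul_assoc], h2⟩

theorem PA.transport {x t : Co0} (hx : PA x) (h : IsConj (x : Spor.Co1) t) : PA t := by
  refine wc_transport ?_ ?_ h hx
  · intro γ t ht r hr
    have := ht (γ⁻¹ * r * γ) fun v hv => (cong_smul_iff γ).1 (by
      simpa [mul_smul] using hr (γ • v) (by simpa [mul_smul] using hv.smul γ))
    simp only [QuotientGroup.mk_mul, QuotientGroup.mk_inv] at this ⊢
    rcases this with e | e
    · left; rw [mul_assoc, inv_mul_eq_one, right_eq_mul] at e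
      exact e
    · right; rw [← e]; group
  · intro t ht r hr
    rw [← mk_eq_mk_co1.2 (Or.inr rfl)]
    exact ht r fun v hv => hr v ((cong_negAut t v).trans hv)

theorem P32.transport {x t : Co0} (hx : P32 x) (h : IsConj (x : Spor.Co1) t) : P32 t := by
  refine wc_transport ?_ ?_ h hx
  · rintro γ t ⟨v, w, h1, h2⟩
    exact ⟨γ • v, γ • w, by rwa [sqNorm_smul], by simpa [mul_smul] using h2.smul γ⟩
  · rintro t ⟨v, w, h1, h2⟩
    exact ⟨v, w, h1, ((cong_negAut t v).add (Cong.refl v)).trans h2⟩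

theorem P48.transport {x t : Co0} (hx : P48 x) (h : IsConj (x : Spor.Co1) t) : P48 t := by
  refine wc_transport ?_ ?_ h hx
  · rintro γ t ⟨v, h1⟩
    exact ⟨γ • v, by rwa [mul_smul, mul_smul, inv_smul_smul, ← smul_add, sqNorm_smul]⟩
  · rintro t ⟨v, h1⟩
    exact ⟨v, by rwa [((cong_negAut t v).add (Cong.refl v)).sqNorm_mod]⟩

/-- the test for an element of order five -/
noncomputable def fiveOK (f : ℕ → ℕ) : Bool :=
  allLT 24 fun k => force (bas.getD k 0) fun a => force (f a) fun b => force (f b) fun c =>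
    force (f c) fun d => force (f d) fun e => allLT 24 fun j =>
      Nat.beq (dg a j + dg b j + dg c j + dg d j + dg e j) 80

theorem five_of {g : Co0} {f : ℕ → ℕ} (h : Sim g f) (e : fiveOK f = true) (v : leechLattice) :
    v + g • v + g • g • v + g • g • g • v + g • g • g • g • v = 0 := by
  simp only [fiveOK, allLT_iff, force_eq, Nat.beq_eq] at e
  rw [← sum_beta_bv v]
  simp only [Finset.smul_sum, co0_smul_zsmul, ← sum_add_distrib, ← smul_add]
  refine sum_eq_zero fun k _ => smul_eq_zero_of_right _ (Subtype.ext (funext fun i => ?_))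
  have h0 : Rep (bas.getD k 0) (bv k).1 := rep_toL (chkN_bas k k.2)
  have h1 := h _ _ (sqNorm_bv k) h0
  have h2 := h _ _ (by simpa only [sqNorm_smul] using sqNorm_bv k) h1
  have h3 := h _ _ (by simpa only [sqNorm_smul] using sqNorm_bv k) h2
  have h4 := h _ _ (by simpa only [sqNorm_smul] using sqNorm_bv k) h3
  have := e k k.2 (ix i) (ix_lt i)
  simp only [AddSubgroup.coe_add, Pi.add_apply, ← h0.2, ← h1.2, ← h2.2, ← h3.2, ← h4.2, dec,
    ZeroMemClass.coe_zero, Pi.zero_apply]
  omega

theorem p5_of {g t : Co0} {f : ℕ → ℕ} (h : Sim g f) (e : fiveOK f = true) (hc : g * t = t * g) :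
    P5 t := by
  refine ⟨g, hc, co0_ext fun v => ?_, fun v hv => ?_⟩
  · have h1 := five_of h e v
    have h2 := five_of h e (g • v)
    simp only [pow_succ, pow_zero, one_mul, mul_smul, one_smul]
    linear_combination (norm := abel1) h2 - h1
  · have h2 := (hv.smul g).trans hv
    have h3 := (h2.smul g).trans hv
    have h4 := (h3.smul g).trans hv
    have h5 := ((((Cong.refl v).add hv).add h2).add h3).add h4
    rw [five_of h e v] at h5
    refine Cong.trans ?_ h5.symm
    exact ⟨-(v + v), by rw [two_smul]; abel⟩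

theorem p5_z0 : P5 z0 := by
  have h : Sim (mG 0x44210801108221080000843103e1080
    0x7efffffffc00080000000000401183e00000100000003fff7ffffffffffc0307c200000100000003fff7ffffffffffbff07ba000001000000040017ffffffffffbff07c200007ff7be0f801effbe0f83def7fe0000000000100000003fff7ffffffffffbff08c2000000083df0801effbe107c1ef8020000000000007be107fdf0041ef841ef8020000000000007c1f07fdeffc21083df07fe0000000000007bdef7fe0ffbdef7c1f07fe0000000007ff7c1f07fdeffbdef7be0f8020000000000008420f7fdeffbdf08420f7fe0000000007ff83e107fe0ffbdf083df08020000000007ff83df0801effc1ef842107fe0000000007d00000003fff7ffffffffffbff07c200007ff7c1ef801f003df0841f08020000000007ff7be107fdf003e107c2107fe00000000000fffffff3fff7ffffffffffbff07c200007ff7bdef7fe0ffc2108420f8020000000007ff841f07fe1003e0f841ef7fe0000000000007bdf08021003df083e0f7fe0000000007ff7c2108020ffc1f07c1ef7fe0000000007ff83def7fdf0041f07bdef7fe0000000007efffffffc0007ffffffffff400f83e) _ := sim_mG (by decide +kernel)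
  have h1 : Sim z0 (sgF 8241104) := sim_sN (by decide +kernel)
  exact p5_of h (by decide +kernel) ((h.mul h1).ext (h1.mul h) (by decide +kernel))

theorem p5_u0 : P5 u0 := by
  have h : Sim (mG 0x41008410846110c42104220843ff80
    0x7ef802107ffffffdff7be2003fff84000000000400003e0f83feefffef7fe0fffe000000f7fe0f80400001ff7c1fffbfff840000000003ffefbe107bff00000f7fdf000200007ef801ef800000020083dfffc01f84000007f077def7ffffffdff7bdfffc0008400000010801f07ffffffe007c1fefbfff84000007fffc3fffc20f7bfefffff07fdefffe00000108021080000001ff83dfffc000844000000003ffffbdef7c00ff7ff07fe10002000000f801ef7ffdfffdff842000400084000007fffbffffbe0f83ff0004108021000200007fffc00003df083fefffff07fdef002000000004000042107bbefffff080210002000000003fe00420f84010000107fdf000200000000400003def7bff000010781efffe00007fefc00003e0f7c00ffffef801f0002000000f7fdf077fffffdff83dfffbfff7c000000107fe0f7fffeffe0083e0003fff8400000010801ef80000001ff7be00043ff7c0000000f7fdf080000001e07be000400084000007fffc000041ef7bff00000f7fe0ff82000000f8020f8000007e007bdfffc0007c000007e003ffffc1ef83feffffef801f0002)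 _ := sim_mG (by decide +kernel)
  exact p5_of h (by decide +kernel) ((h.mul sim_u0).ext (sim_u0.mul h) (by decide +kernel))

theorem dot_bv {t : Co0} {f : ℕ → ℕ} (h : Sim t f) (k : Fin 24) :
    dotInt (t • bv k).1 (bv k).1 = dotN (f (bas.getD k 0)) (bas.getD k 0) :=
  have h0 : Rep (bas.getD k 0) (bv k).1 := rep_toL (chkN_bas k k.2)
  (h _ _ (sqNorm_bv k) h0).dot h0

theorem sq_bv (k : Fin 24) : sqNorm (bv k).1 = 32 := by
  have : ∀ k < 24, dotN (bas.getD k 0) (bas.getD k 0) = 32 := by decide +kernel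
  rw [← this k k.2]
  exact Rep.sqNorm_eq (rep_toL (chkN_bas k k.2))

theorem p32_z0 : P32 z0 := by
  have h1 : Sim z0 (sgF 8241104) := sim_sN (by decide +kernel)
  refine ⟨bv (1 : Fin 24), _, ?_, Cong.refl _⟩
  rw [AddSubgroup.coe_add, sqNorm_add, sqNorm_smul, sq_bv, dot_bv h1]
  decide +kernel

theorem p32_c0 : P32 c0 := by
  refine ⟨bv (5 : Fin 24), c0 • bv (5 : Fin 24) - bv (5 : Fin 24), ?_,
    bv (5 : Fin 24), by rw [two_smul]; abel⟩
  rw [AddSubgroup.coe_sub, sqNorm_sub, sqNorm_smul, sq_bv, dot_bv sim_c0]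
  decide +kernel

theorem p48_c0 : P48 c0 := by
  refine ⟨bv (0 : Fin 24), ?_⟩
  rw [AddSubgroup.coe_add, sqNorm_add, sqNorm_smul, sq_bv, dot_bv sim_c0]
  decide +kernel

theorem same_sign {r : Co0} {x y : leechLattice} (hx : r ∈ pm x) (hy : r ∈ pm y)
    (hxy : r ∈ pm (x + y)) (x0 : x ≠ 0) (y0 : y ≠ 0) : r • x = x ↔ r • y = y := by
  have k : ∀ {a : leechLattice}, a ≠ 0 → a + a ≠ 0 := fun h e =>
    h (by rwa [← two_smul ℤ, smul_eq_zero_iff_right two_ne_zero] at e)
  rw [mem_pm, smul_add] at hxy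
  rcases hx with h1 | h1 <;> rcases hy with h2 | h2 <;> rw [h1, h2] at hxy ⊢
  · simp
  · rcases hxy with e | e
    · exact absurd (by linear_combination (norm := abel1) -e) (k y0)
    · exact absurd (by linear_combination (norm := abel1) e) (k x0)
  · rcases hxy with e | e
    · exact absurd (by linear_combination (norm := abel1) -e) (k x0)
    · exact absurd (by linear_combination (norm := abel1) e) (k y0)
  · exact iff_of_false (fun e => k x0 (by linear_combination (norm := abel1) -e))
      fun e => k y0 (by linear_combination (norm := abel1) -e)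

/-- `4 e_i + 4 e_j` -/
def pV (i j : GolayPt) : leechLattice := ⟨_, single_four_add_mem i j⟩

/-- `4 e_i - 4 e_j` -/
def mV (i j : GolayPt) : leechLattice := ⟨_, single_four_sub_mem i j⟩

theorem sq_pV {i j : GolayPt} (h : i ≠ j) : sqNorm (pV i j).1 = 32 := by
  simp [pV, sqNorm_add, sqNorm_single, dotInt_single_left, h]

theorem sq_mV {i j : GolayPt} (h : i ≠ j) : sqNorm (mV i j).1 = 32 := by
  simp [mV, sqNorm_sub, sqNorm_single, dotInt_single_left, h]

theorem ne_zero_of_32 {v : leechLattice} (h : sqNorm v.1 = 32) : v ≠ 0 := by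
  rintro rfl
  simp [sqNorm] at h

theorem pa_sgn {c : Finset GolayPt} (hc : IsCW c) {a b : GolayPt} (ha : a ∈ c) (hb : b ∉ c)
    (h3 : ∀ i j, ∃ k, k ≠ i ∧ k ≠ j ∧ (k ∈ c ↔ i ∈ c)) : PA (sgnAut c hc) := by
  intro r hr
  have k0 : ∀ {v : leechLattice} {i j}, (i ∈ c ↔ j ∈ c) → (∀ l, l ≠ i → l ≠ j → v.1 l = 0) →
      sqNorm v.1 = 32 → r ∈ pm v := fun {v i j} h1 h2 h4 => by
    refine MT.pm_of_cong h4 (hr v (cong_of_pm ?_))
    by_cases hi : i ∈ c
    · refine Or.inr (Subtype.ext (funext fun l => ?_))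
      rw [sgnAut_smul_apply]
      split_ifs with hl
      · rfl
      · simp [h2 l (fun e => hl (e ▸ hi)) fun e => hl (e ▸ h1.1 hi)]
    · refine Or.inl (Subtype.ext (funext fun l => ?_))
      rw [sgnAut_smul_apply]
      split_ifs with hl
      · simp [h2 l (fun e => hi (e ▸ hl)) fun e => hi (h1.2 (e ▸ hl))]
      · rfl
  have kp : ∀ {i j}, i ≠ j → (i ∈ c ↔ j ∈ c) → r ∈ pm (pV i j) := fun h1 h2 =>
    k0 h2 (fun l l1 l2 => by simp [pV, l1, l2]) (sq_pV h1)
  have km : ∀ {i j}, i ≠ j → (i ∈ c ↔ j ∈ c) → r ∈ pm (mV i j) := fun h1 h2 =>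
    k0 h2 (fun l l1 l2 => by simp [mV, l1, l2]) (sq_mV h1)
  have k1 : ∀ {i j}, i ≠ j → (i ∈ c ↔ j ∈ c) →
      (r • e8 i = e8 i ∧ r • e8 j = e8 j) ∨ (r • e8 i = -e8 i ∧ r • e8 j = -e8 j) := by
    intro i j h1 h2
    obtain ⟨k, k1, k2, k3⟩ := h3 i j
    have e1 : pV i j + mV k i = pV k j := Subtype.ext (by simp only [pV, mV, AddSubgroup.coe_add]; abel)
    have e2 : mV i j + mV k i = mV k j := Subtype.ext (by simp only [mV, AddSubgroup.coe_add]; abel)
    have e3 : e8 i = pV i j + mV i j := Subtype.ext (by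
      simp only [pV, mV, AddSubgroup.coe_add, coe_e8, show (8 : ℤ) = 4 + 4 from rfl, Pi.single_add]; abel)
    have e4 : e8 j = pV i j - mV i j := Subtype.ext (by
      simp only [pV, mV, AddSubgroup.coe_sub, coe_e8, show (8 : ℤ) = 4 + 4 from rfl, Pi.single_add]; abel)
    have s1 := same_sign (kp h1 h2) (km k1 k3) (e1 ▸ kp k2 (k3.trans h2)) (ne_zero_of_32 (sq_pV h1))
      (ne_zero_of_32 (sq_mV k1))
    have s2 := same_sign (km h1 h2) (km k1 k3) (e2 ▸ km k2 (k3.trans h2)) (ne_zero_of_32 (sq_mV h1))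
      (ne_zero_of_32 (sq_mV k1))
    rw [e3, e4, smul_add, smul_sub]
    by_cases h : r • pV i j = pV i j
    · rw [h, s2.2 (s1.1 h)]; exact Or.inl ⟨rfl, rfl⟩
    · rw [(kp h1 h2).resolve_left h, (km h1 h2).resolve_left fun e => h (s1.2 (s2.1 e))]
      exact Or.inr ⟨by abel, by abel⟩
  have k2 : ∀ i, (∀ j, (i ∈ c ↔ j ∈ c) → r • e8 j = e8 j) ∨ ∀ j, (i ∈ c ↔ j ∈ c) → r • e8 j = -e8 j := by
    intro i
    obtain ⟨k, k3, -, k4⟩ := h3 i i
    rcases k1 k3.symm k4.symm with h | h
    · refine Or.inl fun j hj => ?_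
      by_cases e : i = j
      · exact e ▸ h.1
      · exact ((k1 e hj).resolve_right fun e => e8_ne_neg i (h.1.symm.trans e.1)).2
    · refine Or.inr fun j hj => ?_
      by_cases e : i = j
      · exact e ▸ h.1
      · exact ((k1 e hj).resolve_left fun e => e8_ne_neg i (e.1.symm.trans h.1)).2
  rw [mk_eq_one_co1, eq_comm (b := (sgnAut c hc : Spor.Co1)), mk_eq_mk_co1]
  rcases k2 a with h1 | h1 <;> rcases k2 b with h2 | h2
  · refine Or.inl (Or.inl (co0_ext_e8 fun l => ?_))
    by_cases hl : l ∈ c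
    exacts [by rw [one_smul, h1 l (by tauto)], by rw [one_smul, h2 l (by tauto)]]
  · refine Or.inr (Or.inr (co0_ext_e8 fun l => ?_))
    rw [mul_smul, negAut_smul, smul_neg, sgnAut_smul_e8]
    split_ifs with hl
    exacts [by rw [neg_neg, h1 l (by tauto)], h2 l (by tauto)]
  · refine Or.inr (Or.inl (co0_ext_e8 fun l => ?_))
    rw [sgnAut_smul_e8]
    split_ifs with hl
    exacts [h1 l (by tauto), h2 l (by tauto)]
  · refine Or.inl (Or.inr (co0_ext_e8 fun l => ?_))
    by_cases hl : l ∈ c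
    exacts [by rw [negAut_smul, h1 l (by tauto)], by rw [negAut_smul, h2 l (by tauto)]]

theorem pa_z0 : PA z0 := by
  rw [z0_eq]
  refine pa_sgn _ (a := pt 4) (b := pt 0) ?_ ?_ ?_ <;> simp only [mem_ofMask] <;> decide +kernel

theorem cong_zero_of_dot {y : leechLattice} (h : ∀ w : leechLattice, dotInt y.1 w.1 % 16 = 0) :
    Cong y 0 := by
  refine ⟨∑ k : Fin 24, (beta y (dv k) / 2) • bv k, ?_⟩
  rw [sub_zero, Finset.smul_sum]
  conv_lhs => rw [← sum_beta_bv y]
  refine sum_congr rfl fun k _ => ?_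
  have h1 := eight_mul_beta y (dv k)
  have h2 := h (dv k)
  rw [smul_smul]; congr 1; omega

/-- a square root of `-1` fixes no class of type two -/
theorem not_p32 {t r : Co0} (ht : t * t = negAut) (h : ∀ v, Cong (t • v) v → Cong (r • v) v) :
    ¬ P32 r := by
  rintro ⟨v, w, h1, h2⟩
  have tt : ∀ x : leechLattice, t • t • x = -x := fun x => by rw [← mul_smul, ht, negAut_smul]
  have h3 : Cong (t • w + w) 0 := cong_zero_of_dot fun y => by
    obtain ⟨x, rfl⟩ : ∃ x, y = t • x := ⟨t⁻¹ • y, by simp⟩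
    have f1 := h (t • x + x) ⟨-x, by rw [smul_add, tt, two_smul]; abel⟩
    have f2 := f1.dot_mod (r • v)
    have f3 := h2.dot_mod (t • x + x)
    have f4 := dotInt_mod v.2 (t • x + x).2
    rw [dotInt_smul, dotInt_comm, dotInt_comm (t • x + x).1] at f2
    rw [AddSubgroup.coe_add (x := r • v), Leech.dotInt_add_left] at f3
    have f5 : dotInt (t • w + w).1 (t • x).1 = dotInt w.1 (t • x + x).1 := by
      rw [AddSubgroup.coe_add, AddSubgroup.coe_add, Leech.dotInt_add_left, dotInt_add_right, dotInt_smul,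
        add_comm]
    omega
  have h4 := tt w
  rcases MT.pm_of_cong h1 (cong_iff_add.2 h3) with e | e <;> simp only [e, smul_neg, neg_neg] at h4 <;>
    exact ne_zero_of_32 h1 (by
      rwa [eq_neg_iff_add_eq_zero, ← two_smul ℤ, smul_eq_zero_iff_right two_ne_zero] at h4)

/-- every involution has a singular non-zero commutator -/
theorem exists_sing_comm {t : Co0} (h : Cl (t : Spor.Co1)) :
    ∃ v : leechLattice, ¬ Cong (t • v + v) 0 ∧ sqNorm (t • v + v).1 % 32 = 0 := by
  have k : P32 t → ∃ v : leechLattice, ¬ Cong (t • v + v) 0 ∧ sqNorm (t • v + v).1 % 32 = 0 := by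
    rintro ⟨v, w, h1, h2⟩
    exact ⟨v, fun e => MT.not_cong_zero (by omega) (by omega) (h2.symm.trans e), by
      rw [h2.sqNorm_mod, h1]; rfl⟩
  rcases h with h | h | h
  · exact k (p32_z0.transport h)
  · exact k (p32_c0.transport h)
  · have h1 := dotInt_smul t (t • bv (0 : Fin 24)) (bv (0 : Fin 24))
    rw [← mul_smul, conj_uu h, negAut_smul, AddSubgroup.coe_neg, Leech.dotInt_neg_left, dotInt_comm] at h1
    have h2 : sqNorm (t • bv (0 : Fin 24) + bv (0 : Fin 24)).1 = 64 := by
      rw [AddSubgroup.coe_add, sqNorm_add, sqNorm_smul, sq_bv]; omega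
    exact ⟨bv (0 : Fin 24), MT.not_cong_zero h2.le (by omega), by rw [h2]; rfl⟩

/-- no elementary abelian group of order eight with all lifts of order four -/
theorem not_three_neg {a b c : Co0} (ha : a * a = negAut) (hb : b * b = negAut) (hc : c * c = negAut)
    (hab : a * b * (a * b) = negAut) (hac : a * c * (a * c) = negAut) (hbc : b * c * (b * c) = negAut) :
    a * (b * c) * (a * (b * c)) = 1 := by
  have k : ∀ {x y : Co0}, x * x = negAut → y * y = negAut → x * y * (x * y) = negAut →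
      y * x = x * y * negAut := fun {x y} hx hy h => by
    apply mul_left_cancel (a := x); apply mul_right_cancel (b := y)
    rw [← mul_assoc x y x, mul_assoc (x * y), h, mul_assoc x y, neg_comm y, ← mul_assoc, ← mul_assoc,
      hx, negAut_mul_self, one_mul, hy]
  calc a * (b * c) * (a * (b * c)) = a * (b * (c * a)) * (b * c) := by simp only [mul_assoc]
    _ = a * (b * a) * (c * negAut * (b * c)) := by rw [k ha hc hac]; simp only [mul_assoc]
    _ = a * a * (b * negAut * (c * negAut)) * (b * c) := by rw [k ha hb hab]; simp only [mul_assoc]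
    _ = negAut * (b * c * (b * c)) := by
      rw [ha, mul_assoc b, ← mul_assoc negAut c, ← neg_comm c, mul_assoc c, negAut_mul_self, mul_one,
        mul_assoc]
    _ = 1 := by rw [hbc, negAut_mul_self]

end CfsgLib.MonRec
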